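import Cfsg.Agent.TwoFusion.RankTwoTrans.Structure

/-!
Homocyclic or determined: the normal form of the group of order 64.
-/

set_option autoImplicit false
set_option linter.unusedSectionVars false
set_option linter.style.haveILetI false

namespace Cfsg.Lib.RankTwoTrans

open scoped Matrix

/-- Normal forms. -/
abbrev NF : Type := (Fin 2 → ZMod (2 ^ 2)) × Bool × Bool

/-- Left multiplication by the first outer generator. -/
def lx (p : NF) : NF := (X0 *ᵥ p.1 + bif p.2.1 then ![0, 2] else 0, !p.2.1, p.2.2)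

/-- Left multiplication by the second outer generator. -/
def ly (p : NF) : NF :=
  (Y0 *ᵥ p.1 + (bif p.2.1 then ![2, 0] else 0) + (bif p.2.2 then ![2, 0] else 0), p.2.1, !p.2.2)

/-- Multiplication of normal forms. -/
def mulNF (p q : NF) : NF :=
  let r := bif p.2.2 then ly q else q
  let s := bif p.2.1 then lx r else r
  (p.1 + s.1, s.2)

namespace Rels

variable {T : Type*} [Group T] (R : Rels T)

/-- The element of a normal form. -/
def nf (p : NF) : T := R.e p.1 * (bif p.2.1 then R.x else 1) * (bif p.2.2 then R.y else 1)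

theorem e_zero : R.e 0 = 1 := by
  have h := R.e_add 0 0
  rw [add_zero] at h
  exact mul_eq_left.mp h.symm

theorem x_nf (p : NF) : R.x * R.nf p = R.nf (lx p) := by
  obtain ⟨v, _ | _, j⟩ := p
  · simp [nf, lx, R.xe, ← mul_assoc]
  · simp only [nf, lx, cond_true, cond_false, Bool.not_true, R.e_add, mul_one, ← R.xx]
    rw [← mul_assoc, ← mul_assoc, R.xe, mul_assoc (R.e _) R.x R.x]

theorem y_x : R.y * R.x = R.e ![2, 0] * (R.x * R.y) := by
  rw [R.xy, ← mul_assoc, ← R.e_add, show (![2, 0] : Fin 2 → ZMod (2 ^ 2)) + ![2, 0] = 0 by decide, R.e_zero,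
    one_mul]

theorem y_nf (p : NF) : R.y * R.nf p = R.nf (ly p) := by
  obtain ⟨v, i, j⟩ := p
  have hx : R.x * R.e ![2, 0] = R.e ![2, 0] * R.x := by
    rw [R.xe, show X0 *ᵥ (![2, 0] : Fin 2 → ZMod (2 ^ 2)) = ![2, 0] by decide]
  cases i <;> cases j <;> simp only [nf, ly, cond_true, cond_false, Bool.not_true, Bool.not_false, R.e_add,
    R.e_zero, mul_one, one_mul, ← mul_assoc, R.ye]
  · rw [mul_assoc _ R.y R.y, R.yy]
  · rw [mul_assoc _ R.y R.x, R.y_x]; simp only [mul_assoc]
  · calc R.e (Y0 *ᵥ v) * R.y * R.x * R.y = R.e (Y0 *ᵥ v) * (R.y * R.x) * R.y := by group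
      _ = R.e (Y0 *ᵥ v) * R.e ![2, 0] * (R.x * (R.y * R.y)) := by rw [R.y_x]; group
      _ = _ := by rw [R.yy, hx]; group

theorem nf_mul (p q : NF) : R.nf p * R.nf q = R.nf (mulNF p q) := by
  obtain ⟨u, i, j⟩ := p
  have he : ∀ r : NF, R.e u * R.nf r = R.nf (u + r.1, r.2) := fun r => by
    simp only [nf, R.e_add, mul_assoc]
  have hp : R.nf (u, i, j) = R.e u * ((bif i then R.x else 1) * (bif j then R.y else 1)) := by
    simp only [nf, mul_assoc]
  simp only [mulNF]
  rw [← he, hp]
  cases i <;> cases j <;> simp only [cond_true, cond_false, mul_one, one_mul, mul_assoc, R.x_nf, R.y_nf]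

theorem nf_injective : Function.Injective R.nf := by
  rintro ⟨u, i, j⟩ ⟨v, k, l⟩ h
  have hxy : ∀ w, R.x * R.y * R.e w = R.e ((X0 * Y0) *ᵥ w) * (R.x * R.y) := fun w => by
    rw [mul_assoc, R.ye, ← mul_assoc, R.xe, Matrix.mulVec_mulVec, mul_assoc]
  have hconj : ∀ (u w : Fin 2 → ZMod (2 ^ 2)) (i j : Bool), R.nf (u, i, j) * R.e w =
      R.e (((bif i then X0 else 1) * (bif j then Y0 else 1)) *ᵥ w) * R.nf (u, i, j) := by
    intro u w i j
    have hc : ∀ a b, R.e a * R.e b = R.e b * R.e a := fun a b => by rw [← R.e_add, ← R.e_add, add_comm]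
    cases i <;> cases j <;> simp only [nf, cond_true, cond_false, mul_one, one_mul]
    · rw [Matrix.one_mulVec, hc]
    · rw [mul_assoc, R.ye, ← mul_assoc, hc, mul_assoc]
    · rw [mul_assoc, R.xe, ← mul_assoc, hc, mul_assoc]
    · rw [mul_assoc (R.e u) R.x R.y, mul_assoc, hxy, ← mul_assoc, hc, mul_assoc]
  have hm : ∀ w, ((bif i then X0 else 1) * (bif j then Y0 else 1)) *ᵥ w =
      ((bif k then X0 else 1) * (bif l then Y0 else 1)) *ᵥ w := fun w => by
    refine R.e_inj (mul_right_cancel (b := R.nf (u, i, j)) ?_)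
    rw [← hconj, h, ← hconj]
  obtain ⟨rfl, rfl⟩ : i = k ∧ j = l := by
    have h0 := hm ![1, 0]
    have h1 := hm ![0, 1]
    revert h0 h1
    cases i <;> cases j <;> cases k <;> cases l <;> decide
  simp only [nf] at h
  rw [R.e_inj (mul_right_cancel (mul_right_cancel h))]

theorem nf_surjective : Function.Surjective R.nf := by
  intro t
  obtain ⟨v, rfl | rfl | rfl | rfl⟩ := R.surj t
  · exact ⟨(v, false, false), by simp [nf]⟩
  · exact ⟨(v, true, false), by simp [nf]⟩
  · exact ⟨(v, false, true), by simp [nf]⟩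
  · exact ⟨(v, true, true), by simp [nf, mul_assoc]⟩

/-- The normal form as an equivalence. -/
noncomputable def equivNF : NF ≃ T := Equiv.ofBijective R.nf ⟨R.nf_injective, R.nf_surjective⟩

/-- Two groups with these generators and relations are isomorphic. -/
noncomputable def iso {P : Type*} [Group P] (S : Rels P) : T ≃* P :=
  { R.equivNF.symm.trans S.equivNF with
    map_mul' := fun a b => by
      obtain ⟨p, rfl⟩ := R.equivNF.surjective a
      obtain ⟨q, rfl⟩ := R.equivNF.surjective b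
      have h : R.equivNF p * R.equivNF q = R.equivNF (mulNF p q) := R.nf_mul p q
      simp only [Equiv.toFun_as_coe, Equiv.trans_apply, h, Equiv.symm_apply_apply]
      exact (S.nf_mul p q).symm }

end Rels

variable {T : Type*} [Group T] [Finite T]

/-- The setting: rank two and an automorphism transitive on involutions. -/
theorem exists_data (hT : IsPGroup 2 T) (h2 : Cfsg.PRankLE 2 2 T) (h1 : ¬ Cfsg.PRankLE 2 1 T) (φ : MulAut T)
    (htrans : ∀ s t : T, orderOf s = 2 → orderOf t = 2 → ∃ k : ℕ, (φ ^ k) s = t) :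
    ∃ ψ : MulAut T, Data ψ := by
  classical
  haveI : Fact (Nat.Prime 2) := ⟨Nat.prime_two⟩
  have hord : ∀ x : T, x ≠ 1 → x * x = 1 → orderOf x = 2 := fun x hx hx2 =>
    orderOf_eq_prime (by rw [pow_two]; exact hx2) hx
  obtain ⟨A, hAc, hAe, hA2⟩ : ∃ A : Subgroup T, IsMulCommutative A ∧ (∀ a ∈ A, a ^ 2 = 1) ∧ 2 < Nat.card A := by
    by_contra h
    exact h1 fun A hA he => not_lt.mp fun hlt => h ⟨A, hA, he, by simpa using hlt⟩
  obtain ⟨⟨z, hzA⟩, hz⟩ := @exists_ne _ (Finite.one_lt_card_iff_nontrivial.mp (by omega : 1 < Nat.card A)) (1 : A)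
  have hz1 : z ≠ 1 := fun h => hz (Subtype.ext h)
  haveI : Nontrivial T := ⟨⟨z, 1, hz1⟩⟩
  haveI := hT.center_nontrivial
  obtain ⟨⟨c, hc⟩, hc1⟩ := exists_ne (1 : Subgroup.center T)
  obtain ⟨i, hi, hi2⟩ := exists_involution hT (fun e => hc1 (Subtype.ext e) : c ≠ 1)
  have hφc : ∀ (k : ℕ) (u : T), u ∈ Subgroup.center T → (φ ^ k) u ∈ Subgroup.center T := fun k u hu => by
    refine Subgroup.mem_center_iff.mpr fun g => ?_
    obtain ⟨g', rfl⟩ := (φ ^ k).surjective g
    rw [← map_mul, ← map_mul, Subgroup.mem_center_iff.mp hu g']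
  have hcent : ∀ x : T, x * x = 1 → x ∈ Subgroup.center T := fun x hx => by
    by_cases hx1 : x = 1
    · rw [hx1]; exact one_mem _
    obtain ⟨k, hk⟩ := htrans (c ^ i) x (hord _ hi hi2) (hord _ hx1 hx)
    exact hk ▸ hφc k _ (pow_mem hc i)
  let Ω : Subgroup T :=
    { carrier := {x | x * x = 1}
      one_mem' := one_mul 1
      mul_mem' := fun {x y} hx hy => by
        have h := Subgroup.mem_center_iff.mp (hcent x hx) y
        show x * y * (x * y) = 1
        rw [mul_assoc, ← mul_assoc y, h, mul_assoc x y y, show y * y = 1 from hy, mul_one,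
          show x * x = 1 from hx]
      inv_mem' := fun {x} hx => by
        show x⁻¹ * x⁻¹ = 1
        rw [← mul_inv_rev, show x * x = 1 from hx, inv_one] }
  have hΩ4 : Nat.card Ω = 4 := by
    have hle : Nat.card Ω ≤ 2 ^ 2 := h2 Ω
      ⟨⟨fun a b => Subtype.ext (Subgroup.mem_center_iff.mp (hcent _ a.2) b).symm⟩⟩
      (fun a ha => by rw [pow_two]; exact ha)
    have hAΩ : A ≤ Ω := fun a ha => by show a * a = 1; rw [← pow_two]; exact hAe a ha
    have hge : 2 < Nat.card Ω := lt_of_lt_of_le hA2 (Nat.card_le_card_of_injective (Subgroup.inclusion hAΩ)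
      (Subgroup.inclusion_injective hAΩ))
    obtain ⟨e, he⟩ := (hT.to_subgroup Ω).exists_card_eq
    rw [he] at hle hge ⊢
    have : e ≤ 2 := (Nat.pow_le_pow_iff_right (by norm_num : 1 < 2)).mp hle
    interval_cases e <;> omega
  have hinv : ∀ x : T, x * x = 1 → φ x * φ x = 1 := fun x hx => by rw [← map_mul, hx, map_one]
  have h3 : ∀ x : T, x * x = 1 → x ≠ 1 → φ x ≠ x ∧ φ (φ x) ≠ x ∧ φ (φ (φ x)) = x := by
    intro x hx hx1
    have hset : ∀ (u v : T), (∀ k : ℕ, (φ ^ k) x = u ∨ (φ ^ k) x = v) → False := by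
      intro u v hk
      have hsub : ∀ w : Ω, (w : T) ∈ ({1, u, v} : Finset T) := fun w => by
        simp only [Finset.mem_insert, Finset.mem_singleton]
        by_cases hw : (w : T) = 1
        · exact Or.inl hw
        obtain ⟨k, hk'⟩ := htrans x w (hord x hx1 hx) (hord _ hw w.2)
        exact Or.inr (hk' ▸ hk k)
      have h := Nat.card_le_card_of_injective (fun w : Ω => (⟨_, hsub w⟩ : ({1, u, v} : Finset T)))
        (fun a b h => Subtype.ext (congrArg (fun t : ({1, u, v} : Finset T) => (t : T)) h))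
      rw [hΩ4, Nat.card_eq_fintype_card, Fintype.card_coe] at h
      have := Finset.card_le_three (a := (1 : T)) (b := u) (c := v)
      omega
    have hne1 : φ x ≠ x := fun e => hset x x fun k => by
      left
      induction k with
      | zero => rfl
      | succ k ih => rw [pow_succ', MulAut.mul_apply, ih, e]
    have hne2 : φ (φ x) ≠ x := fun e => hset x (φ x) fun k => by
      induction k with
      | zero => exact Or.inl rfl
      | succ k ih =>
        rw [pow_succ', MulAut.mul_apply]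
        rcases ih with ih | ih <;> rw [ih]
        · exact Or.inr rfl
        · exact Or.inl e
    refine ⟨hne1, hne2, ?_⟩
    by_contra hne3
    have hy1 : φ x * φ x = 1 := hinv x hx
    have hy2 := hinv _ hy1
    have hy3 := hinv _ hy2
    have hnz : ∀ u : T, u ≠ 1 → φ u ≠ 1 := fun u hu h => hu (φ.injective (h.trans (map_one φ).symm))
    have hsub : ({1, x, φ x, φ (φ x), φ (φ (φ x))} : Finset T).card ≤ 4 := by
      haveI : Fintype Ω := Fintype.ofFinite _
      rw [← hΩ4, Nat.card_eq_fintype_card, ← Fintype.card_coe]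
      refine Fintype.card_le_of_injective (fun u => (⟨u.1, ?_⟩ : Ω)) (fun a b h =>
        Subtype.ext (congrArg (fun w : Ω => (w : T)) h))
      have := u.2
      simp only [Finset.mem_insert, Finset.mem_singleton] at this
      rcases this with h | h | h | h | h <;> rw [h]
      exacts [one_mul 1, hx, hy1, hy2, hy3]
    have hcard : ({1, x, φ x, φ (φ x), φ (φ (φ x))} : Finset T).card = 5 := by
      rw [Finset.card_insert_of_notMem, Finset.card_insert_of_notMem, Finset.card_insert_of_notMem,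
        Finset.card_insert_of_notMem, Finset.card_singleton]
      all_goals simp only [Finset.mem_insert, Finset.mem_singleton, not_or]
      · exact fun e => hne1 (φ.injective (φ.injective e.symm))
      · exact ⟨fun e => hne1 (φ.injective e.symm), fun e => hne2 (φ.injective e.symm)⟩
      · exact ⟨Ne.symm hne1, Ne.symm hne2, Ne.symm hne3⟩
      · exact ⟨Ne.symm hx1, fun e => hnz x hx1 e.symm, fun e => hnz _ (hnz x hx1) e.symm,
          fun e => hnz _ (hnz _ (hnz x hx1)) e.symm⟩
    omega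
  haveI : Finite (MulAut T) := Finite.of_injective (fun f : MulAut T => (f : T → T)) DFunLike.coe_injective
  obtain ⟨k, m, hm3, hkm⟩ : ∃ k m : ℕ, ¬ 3 ∣ m ∧ orderOf φ = 3 ^ k * m :=
    ⟨_, _, Nat.not_dvd_ordCompl Nat.prime_three (orderOf_pos φ).ne', (Nat.ordProj_mul_ordCompl_eq_self _ _).symm⟩
  have hpow3 : ∀ x : T, x * x = 1 → x ≠ 1 → ∀ q, (φ ^ (3 * q)) x = x := fun x hx hx1 q => by
    induction q with
    | zero => rfl
    | succ q ih =>
      rw [Nat.mul_succ, add_comm, pow_add, MulAut.mul_apply, ih, pow_succ, pow_succ, pow_one, MulAut.mul_apply,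
        MulAut.mul_apply]
      exact (h3 x hx hx1).2.2
  refine ⟨φ ^ m, hT, hcent, hΩ4, fun x hx hfix => ?_, fun x hx => ?_,
    ⟨k, by rw [← pow_mul, mul_comm, ← hkm, pow_orderOf_eq_one]⟩⟩
  · by_contra hx1
    rw [← Nat.mod_add_div m 3, pow_add, MulAut.mul_apply, hpow3 x hx hx1] at hfix
    rcases (show m % 3 = 1 ∨ m % 3 = 2 by omega) with h | h <;> rw [h] at hfix
    · exact (h3 x hx hx1).1 (by simpa using hfix)
    · exact (h3 x hx hx1).2.1 (by simpa [pow_succ] using hfix)
  · by_cases hx1 : x = 1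
    · simp [hx1]
    rw [← MulAut.mul_apply, ← MulAut.mul_apply, ← pow_add, ← pow_add, show m + m + m = 3 * m by ring]
    exact hpow3 x hx hx1 m

/-- Coordinates give an isomorphism with the homocyclic group. -/
theorem homocyclic {n : ℕ} {ψ : MulAut T} (C : Coord ψ n) (h : ∀ t, t ∈ C.A) :
    Nonempty (T ≃* Multiplicative (ZMod (2 ^ n) × ZMod (2 ^ n))) := by
  let f : Multiplicative (ZMod (2 ^ n) × ZMod (2 ^ n)) →* T :=
    MonoidHom.mk' (fun v => C.e ![(Multiplicative.toAdd v).1, (Multiplicative.toAdd v).2]) (fun u v => by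
      rw [← C.e_add]
      congr 1
      funext i
      fin_cases i <;> simp)
  refine ⟨(MulEquiv.ofBijective f ⟨fun u v huv => ?_, fun t => ?_⟩).symm⟩
  · have h1 := C.e_inj huv
    exact Multiplicative.toAdd.injective (Prod.ext (congrFun h1 0) (congrFun h1 1))
  · obtain ⟨v, rfl⟩ := (C.mem_A t).mp (h t)
    refine ⟨Multiplicative.ofAdd (v 0, v 1), ?_⟩
    show C.e _ = C.e v
    congr 1
    funext i
    fin_cases i <;> rfl

/-- The dichotomy. -/
theorem classify (hT : IsPGroup 2 T) (h2 : Cfsg.PRankLE 2 2 T) (h1 : ¬ Cfsg.PRankLE 2 1 T) (φ : MulAut T)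
    (htrans : ∀ s t : T, orderOf s = 2 → orderOf t = 2 → ∃ k : ℕ, (φ ^ k) s = t) :
    (∃ n : ℕ, 1 ≤ n ∧ Nonempty (T ≃* Multiplicative (ZMod (2 ^ n) × ZMod (2 ^ n)))) ∨ Nonempty (Rels T) := by
  obtain ⟨ψ, D⟩ := exists_data hT h2 h1 φ htrans
  obtain ⟨n, ⟨C⟩⟩ := D.exists_coord
  by_cases h : ∀ t, t ∈ C.A
  · exact Or.inl ⟨n, C.one_le, homocyclic C h⟩
  push Not at h
  obtain ⟨t, ht⟩ := h
  have hn := C.one_le
  rcases (show n = 1 ∨ n = 2 ∨ 3 ≤ n by omega) with rfl | rfl | h3
  · exact absurd (one_case C t) ht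
  · exact Or.inr (exists_rels C ⟨t, ht⟩)
  · exact absurd (no_outer h3 C t) ht

end Cfsg.Lib.RankTwoTrans
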