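import Cfsg.Agent.TwoFusion.RankTwoTrans.Coord

/-!
The matrices of the conjugation action on the invariant abelian normal subgroup.
-/

set_option autoImplicit false
set_option linter.unusedSectionVars false
set_option linter.style.haveILetI false

namespace Cfsg.Lib.RankTwoTrans

open scoped Matrix

/-- Reduction modulo two. -/
noncomputable def red {n : ℕ} (hn : 1 ≤ n) : ZMod (2 ^ n) →+* ZMod 2 :=
  ZMod.castHom (dvd_pow_self 2 (by omega)) (ZMod 2)

theorem red_natCast {n : ℕ} (hn : 1 ≤ n) (k : ℕ) : red hn (k : ZMod (2 ^ n)) = (k : ZMod 2) := map_natCast _ k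

theorem natCast_val' {n : ℕ} (z : ZMod (2 ^ n)) : ((z.val : ℕ) : ZMod (2 ^ n)) = z := ZMod.natCast_zmod_val z

/-- The element of order two. -/
def half (n : ℕ) : ZMod (2 ^ n) := ((2 ^ (n - 1) : ℕ) : ZMod (2 ^ n))

theorem half_mul_eq_zero {n : ℕ} (hn : 1 ≤ n) (z : ZMod (2 ^ n)) : half n * z = 0 ↔ red hn z = 0 := by
  obtain ⟨k, rfl⟩ := ZMod.natCast_zmod_surjective z
  rw [red_natCast, half, ← Nat.cast_mul, ZMod.natCast_eq_zero_iff, ZMod.natCast_eq_zero_iff]
  conv_lhs => rw [show 2 ^ n = 2 ^ (n - 1) * 2 by rw [← pow_succ]; congr 1; omega]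
  exact Nat.mul_dvd_mul_iff_left (pow_pos (by norm_num) _)

theorem half_sq {n : ℕ} (hn : 2 ≤ n) : half n * half n = 0 := by
  rw [half, ← Nat.cast_mul, ZMod.natCast_eq_zero_iff, ← pow_add]
  exact pow_dvd_pow 2 (by omega)

theorem exists_of_red_eq_zero {n : ℕ} (hn : 1 ≤ n) {z : ZMod (2 ^ n)} (h : red hn z = 0) : ∃ w, z = 2 * w := by
  obtain ⟨k, rfl⟩ := ZMod.natCast_zmod_surjective z
  rw [red_natCast, ZMod.natCast_eq_zero_iff] at h
  obtain ⟨j, rfl⟩ := h
  exact ⟨(j : ZMod (2 ^ n)), by push_cast; rfl⟩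

theorem exists_of_two_mul_eq_zero {n : ℕ} (hn : 1 ≤ n) {z : ZMod (2 ^ n)} (h : 2 * z = 0) :
    ∃ w, z = half n * w := by
  obtain ⟨k, rfl⟩ := ZMod.natCast_zmod_surjective z
  have h' : ((2 * k : ℕ) : ZMod (2 ^ n)) = 0 := by push_cast; exact h
  rw [ZMod.natCast_eq_zero_iff, show 2 ^ n = 2 * 2 ^ (n - 1) by rw [← pow_succ']; congr 1; omega] at h'
  obtain ⟨j, rfl⟩ := (Nat.mul_dvd_mul_iff_left (by norm_num : 0 < 2)).mp h'
  exact ⟨(j : ZMod (2 ^ n)), by rw [half]; push_cast; rfl⟩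

/-- The twisted sum of a matrix over the field with two elements. -/
def twistSum (S : Matrix (Fin 2) (Fin 2) (ZMod 2)) : Matrix (Fin 2) (Fin 2) (ZMod 2) :=
  S + !![0, 1; 1, 1] * S * (!![0, 1; 1, 1] * !![0, 1; 1, 1]) + !![0, 1; 1, 1] * !![0, 1; 1, 1] * S * !![0, 1; 1, 1]

/-- The three nonzero matrices with twisted sum zero. -/
def S0 : Matrix (Fin 2) (Fin 2) (ZMod 2) := !![1, 1; 0, 1]

/-- The second twisted matrix. -/
def S1 : Matrix (Fin 2) (Fin 2) (ZMod 2) := !![1, 0; 1, 1]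

theorem twist_idem : ∀ S : Matrix (Fin 2) (Fin 2) (ZMod 2), S * S + S = 0 → twistSum S = 0 → S = 0 := by
  decide +kernel

theorem twist_cases : ∀ S : Matrix (Fin 2) (Fin 2) (ZMod 2), twistSum S = 0 →
    S = 0 ∨ S = S0 ∨ S = S1 ∨ S = S0 + S1 := by
  decide +kernel

theorem twist_inj : ∀ S : Matrix (Fin 2) (Fin 2) (ZMod 2), ∀ c : Fin 2 → ZMod 2, twistSum S = 0 → S *ᵥ c = 0 →
    S = 0 ∨ c = 0 := by
  decide +kernel

namespace Coord

variable {T : Type*} [Group T] [Finite T] {ψ : MulAut T} {n : ℕ} (C : Coord ψ n)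

theorem e_zero : C.e 0 = 1 := by
  have h := C.e_add 0 0
  rw [add_zero] at h
  exact mul_eq_left.mp h.symm

theorem e_neg (v : Fin 2 → ZMod (2 ^ n)) : C.e (-v) = (C.e v)⁻¹ :=
  eq_inv_of_mul_eq_one_left (by rw [← C.e_add, neg_add_cancel, C.e_zero])

theorem e_mem (v : Fin 2 → ZMod (2 ^ n)) : C.e v ∈ C.A := (C.mem_A _).mpr ⟨v, rfl⟩

theorem e_comm (u v : Fin 2 → ZMod (2 ^ n)) : C.e u * C.e v = C.e v * C.e u := by
  rw [← C.e_add, ← C.e_add, add_comm]

theorem conj_exists (t : T) (v : Fin 2 → ZMod (2 ^ n)) : ∃ w, C.e w = t * C.e v * t⁻¹ :=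
  (C.mem_A _).mp (C.normal.conj_mem _ (C.e_mem v) t)

/-- The conjugation action as an additive map. -/
noncomputable def conjHom (t : T) : (Fin 2 → ZMod (2 ^ n)) →+ (Fin 2 → ZMod (2 ^ n)) :=
  AddMonoidHom.mk' (fun v => Classical.choose (C.conj_exists t v)) fun u v => C.e_inj (by
    refine (Classical.choose_spec (C.conj_exists t (u + v))).trans (Eq.trans ?_ (C.e_add _ _).symm)
    refine Eq.trans ?_ (congrArg₂ (· * ·) (Classical.choose_spec (C.conj_exists t u))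
      (Classical.choose_spec (C.conj_exists t v))).symm
    rw [C.e_add]
    group)

/-- The matrix of the conjugation action. -/
noncomputable def mat (t : T) : Matrix (Fin 2) (Fin 2) (ZMod (2 ^ n)) :=
  LinearMap.toMatrix' ((C.conjHom t).toZModLinearMap (2 ^ n))

theorem mat_spec (t : T) (v : Fin 2 → ZMod (2 ^ n)) : C.e (C.mat t *ᵥ v) = t * C.e v * t⁻¹ := by
  rw [mat, LinearMap.toMatrix'_mulVec]
  exact Classical.choose_spec (C.conj_exists t v)

theorem mat_eq {t : T} {X : Matrix (Fin 2) (Fin 2) (ZMod (2 ^ n))} (h : ∀ v, C.e (X *ᵥ v) = t * C.e v * t⁻¹) :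
    C.mat t = X :=
  Matrix.ext_of_mulVec_single fun i => C.e_inj (by rw [C.mat_spec, h])

theorem mat_one : C.mat 1 = 1 := C.mat_eq (fun v => by rw [Matrix.one_mulVec]; group)

theorem mat_mul (s t : T) : C.mat (s * t) = C.mat s * C.mat t := C.mat_eq (fun v => by
  rw [← Matrix.mulVec_mulVec, C.mat_spec, C.mat_spec]; group)

theorem mat_of_mem {a : T} (ha : a ∈ C.A) : C.mat a = 1 := C.mat_eq (fun v => by
  obtain ⟨u, rfl⟩ := (C.mem_A _).mp ha
  rw [Matrix.one_mulVec, C.e_comm, mul_inv_cancel_right])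

theorem mem_of_mat {t : T} (h : C.mat t = 1) : t ∈ C.A := C.self_cent t fun a ha => by
  obtain ⟨u, rfl⟩ := (C.mem_A _).mp ha
  have h1 := C.mat_spec t u
  rw [h, Matrix.one_mulVec] at h1
  exact eq_mul_inv_iff_mul_eq.mp h1 |>.symm

theorem mat_psi (t : T) : C.mat (ψ t) = rot (2 ^ n) * C.mat t * (rot (2 ^ n) * rot (2 ^ n)) := by
  refine C.mat_eq fun v => ?_
  rw [← Matrix.mulVec_mulVec, ← Matrix.mulVec_mulVec, ← C.psi_e, C.mat_spec, map_mul, map_mul, map_inv, C.psi_e,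
    Matrix.mulVec_mulVec, ← mul_assoc, rot_cube, Matrix.one_mulVec]

/-- Everything acts trivially on the elements of order two. -/
theorem red_mat (t : T) : (C.mat t).map (red C.one_le) = 1 := by
  have hfix : ∀ v, C.mat t *ᵥ (half n • v) = half n • v := fun v => C.e_inj (by
    have h1 : C.e (half n • v) * C.e (half n • v) = 1 := by
      rw [← C.e_add, show half n • v + half n • v = 0 from funext fun i => ?_, C.e_zero]
      rw [Pi.add_apply, Pi.smul_apply, Pi.zero_apply, smul_eq_mul, ← mul_add, half_mul_eq_zero C.one_le, map_add,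
        CharTwo.add_self_eq_zero]
    rw [C.mat_spec, Subgroup.mem_center_iff.mp (C.central _ h1) t, mul_inv_cancel_right])
  ext i j
  have h := congrFun (hfix (Pi.single j 1)) i
  rw [Matrix.mulVec_smul, Matrix.mulVec_single_one, Pi.smul_apply, Pi.smul_apply, smul_eq_mul, smul_eq_mul,
    ← sub_eq_zero, ← mul_sub, half_mul_eq_zero C.one_le, map_sub, sub_eq_zero] at h
  rw [Matrix.map_apply, show red C.one_le (C.mat t i j) = _ from h, Pi.single_apply, Matrix.one_apply]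
  split_ifs <;> simp

theorem exists_sq_coord {x : T} (hx : x * x ∈ C.A) : ∃ c, C.e c = x * x ∧ C.mat x *ᵥ c = c := by
  obtain ⟨c, hc⟩ := (C.mem_A _).mp hx
  exact ⟨c, hc, C.e_inj (by rw [C.mat_spec, hc]; group)⟩

theorem mul_e (t : T) (v : Fin 2 → ZMod (2 ^ n)) : t * C.e v = C.e (C.mat t *ᵥ v) * t := by
  rw [C.mat_spec, inv_mul_cancel_right]

theorem sq_shift {x : T} {c : Fin 2 → ZMod (2 ^ n)} (hc : C.e c = x * x) (hX : C.mat x * C.mat x = 1)
    (v : Fin 2 → ZMod (2 ^ n)) : x * C.e v * (x * C.e v) = C.e (c + C.mat x *ᵥ v + v) := by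
  rw [C.e_add, C.e_add, hc, mul_assoc (x * x)]
  have h := C.mul_e x (C.mat x *ᵥ v)
  rw [Matrix.mulVec_mulVec, hX, Matrix.one_mulVec] at h
  calc x * C.e v * (x * C.e v) = x * (C.e v * x) * C.e v := by group
    _ = x * (x * C.e (C.mat x *ᵥ v)) * C.e v := by rw [h]
    _ = _ := by group

/-- The relevant product over an orbit of the automorphism lies in the abelian subgroup. -/
theorem mat_orbit {t : T} (h1 : C.mat t * C.mat (ψ t) = C.mat (ψ t) * C.mat t)
    (h2 : C.mat t * C.mat (ψ (ψ t)) = C.mat (ψ (ψ t)) * C.mat t) :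
    C.mat t * C.mat (ψ t) * C.mat (ψ (ψ t)) = 1 := by
  set P := t * ψ t * ψ (ψ t) with hP
  have hm : C.mat (ψ P) = C.mat P := by
    rw [hP, map_mul, map_mul, C.cube, C.mat_mul, C.mat_mul, C.mat_mul, C.mat_mul, mul_assoc, ← h2, ← mul_assoc,
      ← h1]
  have hmem : P⁻¹ * ψ P ∈ C.A := C.mem_of_mat (by
    rw [C.mat_mul, hm, ← C.mat_mul, inv_mul_cancel, C.mat_one])
  have hPA : P ∈ C.A := Data.mem_of_shift C.fpf
    (fun a ha => by
      obtain ⟨v, rfl⟩ := (C.mem_A _).mp ha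
      rw [C.psi_e]; exact C.e_mem _)
    (fun a ha b hb => by
      obtain ⟨u, rfl⟩ := (C.mem_A _).mp ha
      obtain ⟨v, rfl⟩ := (C.mem_A _).mp hb
      exact C.e_comm u v) hmem
  rw [← C.mat_mul, ← C.mat_mul]
  exact C.mat_of_mem hPA

end Coord

theorem map_rot {n : ℕ} (hn : 1 ≤ n) : (rot (2 ^ n)).map (red hn) = !![0, 1; 1, 1] := by
  ext i j
  fin_cases i <;> fin_cases j <;> simp [rot, CharTwo.neg_eq]

theorem smul_mat_eq_zero {n : ℕ} (hn : 1 ≤ n) {V : Matrix (Fin 2) (Fin 2) (ZMod (2 ^ n))} :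
    half n • V = 0 ↔ V.map (red hn) = 0 := by
  simp only [← Matrix.ext_iff, Matrix.smul_apply, smul_eq_mul, Matrix.zero_apply, Matrix.map_apply,
    half_mul_eq_zero hn]

theorem exists_of_two_smul {n : ℕ} (hn : 1 ≤ n) {U : Matrix (Fin 2) (Fin 2) (ZMod (2 ^ n))}
    (h : (2 : ZMod (2 ^ n)) • U = 0) : ∃ V, U = half n • V := by
  have h' : ∀ i j, ∃ w, U i j = half n * w := fun i j =>
    exists_of_two_mul_eq_zero hn (by simpa using congrFun (congrFun h i) j)
  choose V hV using h'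
  exact ⟨Matrix.of V, Matrix.ext fun i j => by simpa using hV i j⟩

theorem exists_of_map_red {n : ℕ} (hn : 1 ≤ n) {U : Matrix (Fin 2) (Fin 2) (ZMod (2 ^ n))}
    (h : U.map (red hn) = 0) : ∃ V, U = (2 : ZMod (2 ^ n)) • V := by
  have h' : ∀ i j, ∃ w, U i j = 2 * w := fun i j => exists_of_red_eq_zero hn (congrFun (congrFun h i) j)
  choose V hV using h'
  exact ⟨Matrix.of V, Matrix.ext fun i j => by simpa using hV i j⟩

end Cfsg.Lib.RankTwoTrans
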