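import Cfsg.Prelude.Def_CaseTheorems
import Cfsg.Agent.Coprime.SolvableBasics
import Mathlib

/-!
2-groups of rank two with an automorphism permuting the three involutions cyclically: the invariant
abelian normal subgroup.
-/

set_option autoImplicit false
set_option linter.unusedSectionVars false
set_option linter.style.haveILetI false

namespace Cfsg.Lib.RankTwoTrans

variable {T : Type*} [Group T]

/-- An automorphism of 3-power order moving each of exactly three central involutions. -/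
structure Data (ψ : MulAut T) : Prop where
  two : IsPGroup 2 T
  central : ∀ x : T, x * x = 1 → x ∈ Subgroup.center T
  card_four : Nat.card {x : T // x * x = 1} = 4
  move : ∀ x : T, x * x = 1 → ψ x = x → x = 1
  cube : ∀ x : T, x * x = 1 → ψ (ψ (ψ x)) = x
  ord : ∃ k, ψ ^ (3 ^ k) = 1

theorem exists_involution (h : IsPGroup 2 T) {x : T} (hx : x ≠ 1) :
    ∃ i, x ^ i ≠ 1 ∧ x ^ i * x ^ i = 1 := by
  obtain ⟨k, hk⟩ := h x
  induction k with
  | zero => exact absurd (by simpa using hk) hx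
  | succ k ih =>
    by_cases hk' : x ^ 2 ^ k = 1
    · exact ih hk'
    · exact ⟨2 ^ k, hk', by rw [← pow_add, ← two_mul, ← pow_succ', hk]⟩

theorem eq_one_of_pow {y : T} (hy : y * y = 1) {m : ℕ} (hm : Odd m) (h : y ^ m = 1) : y = 1 := by
  obtain ⟨j, rfl⟩ := hm
  rwa [pow_succ, pow_mul, pow_two, hy, one_pow, one_mul] at h

/-- The subgroup of elements squaring to one. -/
def omega {ψ : MulAut T} (D : Data ψ) : Subgroup T where
  carrier := {x | x * x = 1}
  one_mem' := one_mul 1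
  mul_mem' {x y} hx hy := by
    have hc := Subgroup.mem_center_iff.mp (D.central x hx) y
    show x * y * (x * y) = 1
    rw [mul_assoc, ← mul_assoc y, hc, mul_assoc x y y, show y * y = 1 from hy, mul_one, show x * x = 1 from hx]
  inv_mem' {x} hx := by
    show x⁻¹ * x⁻¹ = 1
    rw [← mul_inv_rev, show x * x = 1 from hx, inv_one]

theorem mem_omega {ψ : MulAut T} (D : Data ψ) {x : T} : x ∈ omega D ↔ x * x = 1 := Iff.rfl

namespace Data

variable [Finite T] {ψ : MulAut T}

theorem map_inv_mul (D : Data ψ) {x : T} (hx : x * x = 1) : ψ x * ψ x = 1 := by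
  rw [← map_mul, hx, map_one]

theorem fpf (D : Data ψ) {x : T} (hx : ψ x = x) : x = 1 := by
  by_contra h
  obtain ⟨i, hi, hi2⟩ := exists_involution D.two h
  exact hi (D.move _ hi2 (by rw [map_pow, hx]))

theorem fpf_sq (D : Data ψ) {x : T} (hx : ψ (ψ x) = x) : x = 1 := by
  by_contra h
  obtain ⟨i, hi, hi2⟩ := exists_involution D.two h
  refine hi (D.move _ hi2 ?_)
  have h3 := D.cube _ hi2
  rwa [show ψ (ψ (x ^ i)) = x ^ i by rw [map_pow, map_pow, hx]] at h3

theorem mem_of_shift {f : MulAut T} (hf : ∀ x, f x = x → x = 1) {A : Subgroup T}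
    (hA : ∀ a ∈ A, f a ∈ A) (hc : ∀ a ∈ A, ∀ b ∈ A, a * b = b * a) {x : T} (hx : x⁻¹ * f x ∈ A) : x ∈ A := by
  have hinj : Function.Injective (fun a : A => (⟨(a : T)⁻¹ * f a, mul_mem (inv_mem a.2) (hA _ a.2)⟩ : A)) := by
    intro a b hab
    have hab' : (a : T)⁻¹ * f a = (b : T)⁻¹ * f b := congrArg Subtype.val hab
    refine Subtype.ext (mul_inv_eq_one.mp (hf _ ?_))
    rw [map_mul, map_inv]
    have h1 : f (a : T) = (a : T) * ((b : T)⁻¹ * f b) := by rw [← hab']; group
    rw [h1, mul_assoc, mul_assoc, mul_inv_cancel, mul_one]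
  obtain ⟨b, hb⟩ := Finite.surjective_of_injective hinj ⟨_, hx⟩
  have hb' : (b : T)⁻¹ * f b = x⁻¹ * f x := congrArg Subtype.val hb
  have hfix : f (x * (b : T)⁻¹) = x * (b : T)⁻¹ := by
    have h1 : f x = x * ((b : T)⁻¹ * f b) := by rw [hb']; group
    rw [map_mul, map_inv, h1, mul_assoc, mul_assoc, mul_inv_cancel, mul_one]
  rw [mul_inv_eq_one.mp (hf _ hfix)]
  exact b.2

theorem nofix (D : Data ψ) {A : Subgroup T} (hA : ∀ a ∈ A, ψ a ∈ A) (hc : ∀ a ∈ A, ∀ b ∈ A, a * b = b * a)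
    {x : T} (hx : x⁻¹ * ψ x ∈ A) : x ∈ A := mem_of_shift (fun _ h => D.fpf h) hA hc hx

theorem iterate_shift {f : MulAut T} {x e : T} (hx : f x = x * e) (he : f e = e) (m : ℕ) :
    (f ^ m) x = x * e ^ m := by
  induction m with
  | zero => simp
  | succ m ih =>
    rw [pow_succ', MulAut.mul_apply, ih, map_mul, map_pow, he, hx, mul_assoc, ← pow_succ']

theorem fix_of_shift (D : Data ψ) {x e : T} (hx : ψ (ψ (ψ x)) = x * e) (he : ψ (ψ (ψ e)) = e) :
    ψ (ψ (ψ x)) = x := by
  obtain ⟨k, hk⟩ := D.ord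
  have h1 := iterate_shift (f := ψ ^ 3) hx he (3 ^ k)
  rw [← pow_mul, mul_comm 3, pow_mul, hk, one_pow, MulAut.one_apply] at h1
  have h2 : e ^ (3 ^ k) = 1 := by simpa using h1.symm
  obtain ⟨j, hj⟩ := D.two e
  have hcop : Nat.Coprime (3 ^ k) (2 ^ j) := by
    apply Nat.Coprime.pow; norm_num
  have h3 : e = 1 := orderOf_eq_one_iff.mp (Nat.eq_one_of_dvd_coprimes hcop
    (orderOf_dvd_of_pow_eq_one h2) (orderOf_dvd_of_pow_eq_one hj))
  rw [hx, h3, mul_one]

theorem cube_abelian (D : Data ψ) {A : Subgroup T} (hA : ∀ a ∈ A, ψ a ∈ A)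
    (hc : ∀ a ∈ A, ∀ b ∈ A, a * b = b * a) {x : T} (hx : x ∈ A) : ψ (ψ (ψ x)) = x := by
  suffices ∀ j, ∀ y ∈ A, y ^ 2 ^ j = 1 → ψ (ψ (ψ y)) = y by
    obtain ⟨j, hj⟩ := D.two x
    exact this j x hx hj
  intro j
  induction j with
  | zero => intro y _ hy; rw [show y = 1 by simpa using hy]; simp
  | succ j ih =>
    intro y hy hy2
    have hyy : ψ (ψ (ψ (y * y))) = y * y :=
      ih _ (mul_mem hy hy) (by rw [← pow_two, ← pow_mul, ← pow_succ']; exact hy2)
    have hz : ψ (ψ (ψ y)) ∈ A := hA _ (hA _ (hA _ hy))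
    set z := ψ (ψ (ψ y)) with hzdef
    have hzz : z * z = y * y := by rw [← hyy, map_mul, map_mul, map_mul]
    have he : y⁻¹ * z * (y⁻¹ * z) = 1 := by
      rw [hc _ (inv_mem hy) _ hz, mul_assoc, ← mul_assoc y⁻¹, hc _ (inv_mem hy) _ hz, mul_assoc z, ← mul_assoc z z,
        hzz]
      group
    exact D.fix_of_shift (e := y⁻¹ * z) (by rw [mul_inv_cancel_left]) (D.cube _ he)

theorem mem_omega_central (D : Data ψ) {a : T} (ha : a ∈ omega D) (b : T) : a * b = b * a :=
  (Subgroup.mem_center_iff.mp (D.central a ha) b).symm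

theorem omega_invariant (D : Data ψ) {a : T} (ha : a ∈ omega D) : ψ a ∈ omega D := D.map_inv_mul ha

theorem card_omega (D : Data ψ) : Nat.card (omega D) = 4 := D.card_four

/-- An invariant abelian normal subgroup containing the involutions. -/
structure Good (D : Data ψ) (A : Subgroup T) : Prop where
  normal : A.Normal
  comm : ∀ a ∈ A, ∀ b ∈ A, a * b = b * a
  inv : ∀ a ∈ A, ψ a ∈ A
  omega_le : omega D ≤ A

theorem good_omega (D : Data ψ) : D.Good (omega D) where
  normal := ⟨fun a ha b => by rwa [← D.mem_omega_central ha b, mul_assoc, mul_inv_cancel, mul_one]⟩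
  comm := fun _ ha b _ => D.mem_omega_central ha b
  inv := fun _ => D.omega_invariant
  omega_le := le_rfl

theorem exists_max (D : Data ψ) : ∃ A : Subgroup T, D.Good A ∧ ∀ B, D.Good B → A ≤ B → B = A := by
  obtain ⟨A, hA⟩ := Set.Finite.exists_maximal (Set.toFinite {A : Subgroup T | D.Good A}) ⟨_, D.good_omega⟩
  exact ⟨A, hA.1, fun B hB hle => le_antisymm (hA.2 hB hle) hle⟩

end Data

end Cfsg.Lib.RankTwoTrans
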