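import Cfsg.Agent.TwoFusion.RankTwoTrans.SelfCentral

/-!
Coordinates on the maximal invariant abelian normal subgroup and the matrices of the conjugation action.
-/

set_option autoImplicit false
set_option linter.unusedSectionVars false
set_option linter.style.haveILetI false

namespace Cfsg.Lib.RankTwoTrans

open scoped Matrix

/-- The matrix of the automorphism of order three in the basis `a, ψ a`. -/
def rot (N : ℕ) : Matrix (Fin 2) (Fin 2) (ZMod N) := !![0, -1; 1, -1]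

theorem rot_cube (N : ℕ) : rot N * rot N * rot N = 1 := by
  rw [rot]
  simp [Matrix.mul_fin_two, Matrix.one_fin_two]

theorem rot_mulVec (N : ℕ) (v : Fin 2 → ZMod N) : rot N *ᵥ v = ![-(v 1), v 0 - v 1] := by
  funext i
  fin_cases i <;> simp [rot, Matrix.mulVec, dotProduct, Fin.sum_univ_two, sub_eq_add_neg]

variable {T : Type*} [Group T] [Finite T] {ψ : MulAut T}

/-- Coordinates on an abelian normal subgroup. -/
structure Coord (ψ : MulAut T) (n : ℕ) where
  A : Subgroup T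
  e : (Fin 2 → ZMod (2 ^ n)) → T
  one_le : 1 ≤ n
  e_add : ∀ u v, e (u + v) = e u * e v
  e_inj : Function.Injective e
  mem_A : ∀ a : T, a ∈ A ↔ ∃ v, e v = a
  normal : A.Normal
  self_cent : ∀ t : T, (∀ a ∈ A, t * a = a * t) → t ∈ A
  omega_mem : ∀ t : T, t * t = 1 → t ∈ A
  central : ∀ t : T, t * t = 1 → t ∈ Subgroup.center T
  two : IsPGroup 2 T
  fpf : ∀ x : T, ψ x = x → x = 1
  cube : ∀ x : T, ψ (ψ (ψ x)) = x
  psi_e : ∀ v, ψ (e v) = e (rot (2 ^ n) *ᵥ v)

namespace Data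

theorem exists_coord (D : Data ψ) : ∃ n, Nonempty (Coord ψ n) := by
  obtain ⟨A, hA, hmax⟩ := D.exists_max
  haveI := hA.normal
  haveI : Fintype T := Fintype.ofFinite T
  obtain ⟨a0, ha0, hamax⟩ := Set.exists_max_image (A : Set T) orderOf (Set.toFinite _) ⟨1, one_mem A⟩
  obtain ⟨n, hn⟩ : ∃ n, orderOf a0 = 2 ^ n := by
    obtain ⟨k, hk⟩ := D.two a0
    obtain ⟨i, -, hi⟩ := (Nat.dvd_prime_pow Nat.prime_two).mp (orderOf_dvd_of_pow_eq_one hk)
    exact ⟨i, hi⟩
  have hexp : ∀ a ∈ A, a ^ 2 ^ n = 1 := by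
    intro a ha
    obtain ⟨k, hk⟩ := D.two a
    obtain ⟨i, -, hi⟩ := (Nat.dvd_prime_pow Nat.prime_two).mp (orderOf_dvd_of_pow_eq_one hk)
    have hle : 2 ^ i ≤ 2 ^ n := hi ▸ hn ▸ hamax a ha
    have hin : i ≤ n := (Nat.pow_le_pow_iff_right (by norm_num : 1 < 2)).mp hle
    exact orderOf_dvd_iff_pow_eq_one.mp (hi ▸ pow_dvd_pow 2 hin)
  have hn1 : 1 ≤ n := by
    by_contra h
    have hn0 : n = 0 := by omega
    have hall : ∀ a ∈ omega D, a = 1 := fun a ha => by simpa [hn0] using hexp a (hA.omega_le ha)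
    haveI : Subsingleton (omega D) := ⟨fun u v => Subtype.ext (by rw [hall u u.2, hall v v.2])⟩
    have := D.card_omega
    rw [Nat.card_eq_one_iff_unique.mpr ⟨inferInstance, inferInstance⟩] at this
    omega
  set b0 := ψ a0 with hb0
  have hb0A : b0 ∈ A := hA.inv _ ha0
  have hob : orderOf b0 = 2 ^ n := by rw [hb0, MulEquiv.orderOf_eq, hn]
  have hab : ∀ i j : ℕ, a0 ^ i * b0 ^ j = b0 ^ j * a0 ^ i := fun i j =>
    hA.comm _ (pow_mem ha0 i) _ (pow_mem hb0A j)
  let e : (Fin 2 → ZMod (2 ^ n)) → T := fun v => a0 ^ (v 0).val * b0 ^ (v 1).val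
  have hpa : ∀ x y : ZMod (2 ^ n), ∀ c : T, orderOf c = 2 ^ n → c ^ (x + y).val = c ^ x.val * c ^ y.val := by
    intro x y c hc
    rw [← pow_add, pow_eq_pow_iff_modEq, hc, ZMod.val_add]
    exact Nat.mod_modEq _ _
  have hadd : ∀ u v, e (u + v) = e u * e v := by
    intro u v
    simp only [e, Pi.add_apply, hpa _ _ _ hn, hpa _ _ _ hob]
    rw [mul_assoc, ← mul_assoc (a0 ^ (v 0).val), hab, mul_assoc, mul_assoc]
  have hdep : ∀ i j : ℕ, a0 ^ i * b0 ^ j = 1 → 2 ^ n ∣ i ∧ 2 ^ n ∣ j := by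
    intro i j hij
    by_cases h1 : a0 ^ i = 1
    · rw [h1, one_mul] at hij
      exact ⟨hn ▸ orderOf_dvd_of_pow_eq_one h1, hob ▸ orderOf_dvd_of_pow_eq_one hij⟩
    exfalso
    obtain ⟨m, hm, hm2⟩ := exists_involution D.two h1
    have hcyc : ∀ (c : T) (d : ℕ), orderOf c = 2 ^ n → (c ^ d) ≠ 1 → c ^ d * c ^ d = 1 →
        c ^ d = c ^ 2 ^ (n - 1) := by
      intro c d hc hd hd2
      have h2 : 2 ^ n ∣ d + d := hc ▸ orderOf_dvd_of_pow_eq_one (by rw [pow_add]; exact hd2)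
      have h3 : ¬ 2 ^ n ∣ d := fun h => hd (orderOf_dvd_iff_pow_eq_one.mp (hc ▸ h))
      have hsplit : 2 ^ n = 2 * 2 ^ (n - 1) := by rw [← pow_succ']; congr 1; omega
      rw [pow_eq_pow_iff_modEq, hc]
      rw [hsplit] at h2 h3 ⊢
      obtain ⟨q, hq⟩ := h2
      obtain ⟨r, rfl⟩ | ⟨r, rfl⟩ := Nat.even_or_odd q
      · exact absurd ⟨r, by linarith⟩ h3
      · have : d = 2 ^ (n - 1) + 2 * 2 ^ (n - 1) * r := by linarith
        rw [this]
        exact Nat.add_mul_mod_self_left _ _ _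
    have hj : (b0 ^ j) ^ m = ((a0 ^ i) ^ m)⁻¹ := by
      rw [← inv_pow, eq_inv_of_mul_eq_one_left hij, inv_inv]
    have hinv : ((a0 ^ i) ^ m)⁻¹ = (a0 ^ i) ^ m := inv_eq_of_mul_eq_one_right hm2
    rw [hinv] at hj
    have hb1 : b0 ^ (j * m) ≠ 1 := by rw [pow_mul, hj]; exact hm
    have hb2 : b0 ^ (j * m) * b0 ^ (j * m) = 1 := by rw [pow_mul, hj]; exact hm2
    rw [← pow_mul] at hj hm hm2
    have hbe := hcyc _ _ hob hb1 hb2
    have hae := hcyc _ _ hn hm hm2
    rw [← pow_mul, hbe, hae, hb0, ← map_pow] at hj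
    exact hm (by rw [hae]; exact D.move _ (hae ▸ hm2) hj)
  have hinj : Function.Injective e := by
    intro u v huv
    have h0 : e (u - v) = 1 := by
      have h1 : e (u - v) * e v = e v := by rw [← hadd, sub_add_cancel, huv]
      exact mul_eq_right.mp h1
    obtain ⟨h1, h2⟩ := hdep _ _ h0
    have hz : ∀ z : ZMod (2 ^ n), 2 ^ n ∣ z.val → z = 0 := fun z hz =>
      (ZMod.val_eq_zero z).mp (Nat.eq_zero_of_dvd_of_lt hz (ZMod.val_lt z))
    funext i
    fin_cases i
    · exact sub_eq_zero.mp (hz _ h1)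
    · exact sub_eq_zero.mp (hz _ h2)
  have hcard : ∀ j, Nat.card {a : T // a ∈ A ∧ a ^ 2 ^ j = 1} ≤ 4 ^ j := by
    intro j
    induction j with
    | zero =>
      haveI : Subsingleton {a : T // a ∈ A ∧ a ^ 2 ^ 0 = 1} :=
        ⟨fun u v => Subtype.ext (by rw [show u.1 = 1 by simpa using u.2.2, show v.1 = 1 by simpa using v.2.2])⟩
      exact le_trans (Finite.card_le_one_iff_subsingleton.mpr inferInstance) (le_of_eq (pow_zero 4).symm)
    | succ j ih =>
      classical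
      let f : {a : T // a ∈ A ∧ a ^ 2 ^ (j + 1) = 1} → {a : T // a ∈ A ∧ a ^ 2 ^ j = 1} :=
        fun a => ⟨a.1 ^ 2, pow_mem a.2.1 2, by rw [← pow_mul, ← pow_succ']; exact a.2.2⟩
      rw [Nat.card_eq_fintype_card] at ih ⊢
      rw [← Finset.card_univ, show 4 ^ (j + 1) = 4 * 4 ^ j from pow_succ' 4 j]
      refine le_trans (Finset.card_le_mul_card_image (f := f) Finset.univ 4 fun b _ => ?_)
        (Nat.mul_le_mul_left 4 ((Finset.card_le_univ _).trans ih))
      by_cases hne : (Finset.univ.filter fun a => f a = b).Nonempty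
      · obtain ⟨a₁, ha₁⟩ := hne
        rw [Finset.mem_filter] at ha₁
        rw [← D.card_omega, Nat.card_eq_fintype_card, ← Finset.card_univ]
        refine Finset.card_le_card_of_injOn
          (fun a => if h : (a.1⁻¹ * a₁.1) * (a.1⁻¹ * a₁.1) = 1 then (⟨_, h⟩ : omega D) else ⟨1, one_mem _⟩)
          (fun _ _ => Finset.mem_univ _) ?_
        intro a ha a' ha' heq
        simp only [Finset.coe_filter, Set.mem_setOf_eq, Finset.mem_univ, true_and] at ha ha'
        have key : ∀ a : {a : T // a ∈ A ∧ a ^ 2 ^ (j + 1) = 1}, f a = b →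
            (a.1⁻¹ * a₁.1) * (a.1⁻¹ * a₁.1) = 1 := by
          intro a ha
          have h2 : a.1 ^ 2 = a₁.1 ^ 2 := congrArg Subtype.val (ha.trans ha₁.2.symm)
          have hc : a.1⁻¹ * a₁.1 = a₁.1 * a.1⁻¹ := hA.comm _ (inv_mem a.2.1) _ a₁.2.1
          have := Commute.mul_pow (show Commute a.1⁻¹ a₁.1 from hc) 2
          rw [← pow_two, this, inv_pow, ← h2, inv_mul_cancel]
        simp only [dif_pos (key a ha), dif_pos (key a' ha')] at heq
        replace heq := inv_injective (mul_right_cancel (congrArg Subtype.val heq))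
        exact Subtype.ext heq
      · rw [Finset.not_nonempty_iff_eq_empty.mp hne]; simp
  have hmem : ∀ a : T, a ∈ A ↔ ∃ v, e v = a := by
    have hle : ∀ v, e v ∈ A := fun v => mul_mem (pow_mem ha0 _) (pow_mem hb0A _)
    let g : (Fin 2 → ZMod (2 ^ n)) → {a : T // a ∈ A ∧ a ^ 2 ^ n = 1} := fun v => ⟨e v, hle v, hexp _ (hle v)⟩
    have hg : Function.Injective g := fun u v h => hinj (congrArg Subtype.val h)
    have hgs : Function.Surjective g := by
      classical
      refine ((Nat.bijective_iff_injective_and_card g).mpr ⟨hg, le_antisymm (Nat.card_le_card_of_injective g hg) ?_⟩).2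
      refine (hcard n).trans ?_
      rw [Nat.card_fun, Nat.card_fin, Nat.card_zmod, ← pow_mul, mul_comm, pow_mul]
      norm_num
    exact fun a => ⟨fun ha => (hgs ⟨a, ha, hexp a ha⟩).imp fun v hv => congrArg Subtype.val hv,
      fun ⟨v, hv⟩ => hv ▸ hle v⟩
  have hψb : ψ b0 = a0⁻¹ * b0⁻¹ := by
    have h1 : a0 * b0 * ψ b0 = 1 := by
      refine D.fpf ?_
      rw [map_mul, map_mul, ← hb0, D.cube_abelian hA.inv hA.comm ha0]
      · rw [hA.comm _ (mul_mem hb0A (hA.inv _ hb0A)) _ ha0, mul_assoc]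
    have h2 := eq_inv_of_mul_eq_one_right h1
    rw [h2, _root_.mul_inv_rev, hA.comm _ (inv_mem hb0A) _ (inv_mem ha0)]
  refine ⟨n, ⟨{
    A := A
    e := e
    one_le := hn1
    e_add := hadd
    e_inj := hinj
    mem_A := hmem
    normal := hA.normal
    self_cent := fun t ht => D.self_centralizing hA hmax ht
    omega_mem := fun t ht => hA.omega_le ht
    central := D.central
    two := D.two
    fpf := fun x hx => D.fpf hx
    cube := D.cube_all hA hmax
    psi_e := ?_ }⟩⟩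
  intro v
  rw [rot_mulVec]
  show ψ (a0 ^ (v 0).val * b0 ^ (v 1).val) = a0 ^ (-(v 1)).val * b0 ^ (v 0 - v 1).val
  rw [map_mul, map_pow, map_pow, ← hb0, hψb, sub_eq_add_neg, hpa _ _ _ hob]
  have hneg : ∀ c : T, orderOf c = 2 ^ n → ∀ x : ZMod (2 ^ n), c ^ (-x).val = (c⁻¹) ^ x.val := by
    intro c hc x
    have h := hpa x (-x) c hc
    rw [add_neg_cancel, ZMod.val_zero, pow_zero] at h
    rw [inv_pow]
    exact eq_inv_of_mul_eq_one_right h.symm
  rw [hneg _ hn, hneg _ hob, Commute.mul_pow (hA.comm _ (inv_mem ha0) _ (inv_mem hb0A)), ← mul_assoc, ← mul_assoc]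
  congr 1
  exact hA.comm _ (pow_mem hb0A _) _ (pow_mem (inv_mem ha0) _)

end Data

end Cfsg.Lib.RankTwoTrans
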