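import Cfsg.Agent.TwoFusion.RankTwoTrans.Basic

/-!
The maximal invariant abelian normal subgroup is self-centralizing and the automorphism has order three.
-/

set_option autoImplicit false
set_option linter.unusedSectionVars false
set_option linter.style.haveILetI false

namespace Cfsg.Lib.RankTwoTrans

open scoped commutatorElement

/-- An anisotropic quadratic map into a group of order at most four lives on at most 32 elements. -/
theorem quad_card {M V : Type*} [CommGroup M] [Finite M] [CommGroup V] [Finite V] (hM : ∀ x : M, x * x = 1)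
    (hV : ∀ v : V, v * v = 1) (hVc : Nat.card V ≤ 4) (q : M → V) (hq : ∀ x, q x = 1 → x = 1) (B : M → M → V)
    (hB : ∀ x y, q (x * y) = q x * q y * B x y) (hBl : ∀ x y z, B x (y * z) = B x y * B x z) :
    Nat.card M ≤ 32 := by
  by_cases hne : ∀ x : M, x = 1
  · haveI : Subsingleton M := ⟨fun a b => by rw [hne a, hne b]⟩
    rw [Nat.card_eq_one_iff_unique.mpr ⟨inferInstance, inferInstance⟩]; norm_num
  push Not at hne
  obtain ⟨x, hx⟩ := hne
  let f : M →* V := MonoidHom.mk' (B x) (hBl x)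
  have hMf : Nat.card M ≤ 4 * Nat.card f.ker := by
    rw [← Subgroup.card_mul_index f.ker, Subgroup.index_ker, mul_comm 4]
    exact Nat.mul_le_mul_left _ ((Nat.card_le_card_of_injective _ Subtype.val_injective).trans hVc)
  suffices hK : Nat.card f.ker ≤ 8 by omega
  have hKq : ∀ y ∈ f.ker, q (x * y) = q x * q y := fun y hy => by
    rw [hB, show B x y = 1 from hy, mul_one]
  have hqx : q x ≠ 1 := fun h => hx (hq x h)
  set L := Subgroup.zpowers (q x) with hLdef
  have hL2 : Nat.card L = 2 := by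
    rw [Nat.card_zpowers]
    exact orderOf_eq_prime (by rw [pow_two]; exact hV _) hqx
  have hVQ : Nat.card (V ⧸ L) ≤ 2 := by
    have h1 := Subgroup.card_eq_card_quotient_mul_card_subgroup L
    rw [hL2] at h1
    omega
  set r : M → V ⧸ L := fun y => QuotientGroup.mk (q y) with hrdef
  have hr : ∀ y ∈ f.ker, r y = 1 → y = 1 ∨ y = x := fun y hy h => by
    obtain ⟨i, hi⟩ := Subgroup.mem_zpowers_iff.mp ((QuotientGroup.eq_one_iff _).mp h)
    rcases Int.even_or_odd i with ⟨j, rfl⟩ | ⟨j, rfl⟩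
    · left
      refine hq y ?_
      rw [← hi, zpow_add, ← mul_zpow, hV, one_zpow]
    · right
      have hy1 : q y = q x := by
        rw [← hi, zpow_add_one, two_mul, zpow_add, ← mul_zpow, hV, one_zpow, one_mul]
      have h2 : q (x * y) = 1 := by rw [hKq y hy, hy1, hV]
      exact (mul_left_cancel ((hq _ h2).trans (hM x).symm))
  by_cases hall : ∀ y ∈ f.ker, y = 1 ∨ y = x
  · calc Nat.card f.ker ≤ Nat.card ({1, x} : Set M) :=
          Nat.card_mono (Set.toFinite _) (fun y hy => hall y hy)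
      _ ≤ 8 := by
          rw [Nat.card_coe_set_eq]
          exact le_trans (Set.ncard_insert_le _ _) (by simp)
  push Not at hall
  obtain ⟨y, hy, hy1, hyx⟩ := hall
  have hQ2 : ∀ a b : V ⧸ L, a ≠ 1 → b ≠ 1 → a = b := fun a b ha hb => by
    by_contra hab
    have h3 : ({1, a, b} : Set (V ⧸ L)).ncard = 3 :=
      Set.ncard_eq_three.mpr ⟨1, a, b, fun e => ha e.symm, fun e => hb e.symm, hab, rfl⟩
    have := Set.ncard_le_card ({1, a, b} : Set (V ⧸ L))
    omega
  let g : f.ker →* V ⧸ L := MonoidHom.mk' (fun z => QuotientGroup.mk (B y z))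
    (fun a b => by simp only [Subgroup.coe_mul, hBl, QuotientGroup.mk_mul])
  have hg : Nat.card f.ker ≤ 2 * Nat.card g.ker := by
    rw [← Subgroup.card_mul_index g.ker, Subgroup.index_ker, mul_comm 2]
    exact Nat.mul_le_mul_left _ ((Nat.card_le_card_of_injective _ Subtype.val_injective).trans hVQ)
  have hsub : ∀ z : f.ker, z ∈ g.ker → (z : M) ∈ ({1, x, y, y * x} : Set M) := by
    intro z hz
    simp only [Set.mem_insert_iff, Set.mem_singleton_iff]
    by_contra hzn
    push Not at hzn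
    obtain ⟨z1, zx, zy, zyx⟩ := hzn
    have h1 : r (y * z) = r y * r z := by
      simp only [hrdef, hB, QuotientGroup.mk_mul]
      rw [show (QuotientGroup.mk (B y z) : V ⧸ L) = 1 from hz, mul_one]
    have ry : r y ≠ 1 := fun h => (hr y hy h).elim hy1 hyx
    have rz : r z ≠ 1 := fun h => (hr z z.2 h).elim z1 zx
    have h2 : r (y * z) = 1 := by
      rw [h1, hQ2 _ _ rz ry]
      simp only [hrdef, ← QuotientGroup.mk_mul, hV, QuotientGroup.mk_one]
    rcases hr _ (mul_mem hy z.2) h2 with h3 | h3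
    · exact zy (mul_left_cancel (h3.trans (hM y).symm))
    · exact zyx (by rw [← h3, ← mul_assoc, hM, one_mul])
  have hg4 : Nat.card g.ker ≤ 4 := by
    calc Nat.card g.ker ≤ Nat.card ({1, x, y, y * x} : Set M) :=
          Nat.card_le_card_of_injective (fun z : g.ker => (⟨_, hsub z z.2⟩ : ({1, x, y, y * x} : Set M)))
            (fun a b h => Subtype.ext (Subtype.ext (congrArg (fun u : ({1, x, y, y * x} : Set M) => (u : M)) h)))
      _ ≤ 4 := by
          rw [Nat.card_coe_set_eq]
          refine (Set.ncard_insert_le _ _).trans ?_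
          have h := (Set.ncard_insert_le x ({y, y * x} : Set M))
          have h' := (Set.ncard_insert_le y ({y * x} : Set M))
          rw [Set.ncard_singleton] at h'
          omega
  omega

/-- A permutation of 3-power order on a set whose size is not divisible by nine has a point fixed by its cube. -/
theorem exists_fix_cube {X : Type*} [Finite X] (σ : Equiv.Perm X) (k : ℕ) (hk : σ ^ (3 ^ k) = 1)
    (h9 : ¬ 9 ∣ Nat.card X) : ∃ x, σ (σ (σ x)) = x := by
  classical
  haveI := Fintype.ofFinite X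
  by_contra hno
  push Not at hno
  have hsupp : σ.support = Finset.univ := Finset.eq_univ_of_forall fun x =>
    Equiv.Perm.mem_support.mpr (fun h => hno x (by rw [h, h, h]))
  refine h9 ?_
  rw [Nat.card_eq_fintype_card, ← Finset.card_univ, ← hsupp, ← Equiv.Perm.sum_cycleType]
  refine Multiset.dvd_sum fun n hn => ?_
  have hn2 := Equiv.Perm.two_le_of_mem_cycleType hn
  have hdvd : n ∣ 3 ^ k := (Equiv.Perm.dvd_of_mem_cycleType hn).trans (orderOf_dvd_of_pow_eq_one hk)
  obtain ⟨i, -, rfl⟩ := (Nat.dvd_prime_pow Nat.prime_three).mp hdvd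
  rcases i with _ | _ | i
  · simp at hn2
  · exfalso
    rw [Equiv.Perm.cycleType_def, Multiset.mem_map] at hn
    obtain ⟨c, hc, hc3⟩ := hn
    rw [Finset.mem_val, Equiv.Perm.mem_cycleFactorsFinset_iff] at hc
    have hc3' : orderOf c = 3 := by
      rw [hc.1.orderOf]; simpa using hc3
    obtain ⟨x, hx⟩ : c.support.Nonempty := Finset.card_pos.mp (by simp only [Function.comp] at hc3; omega)
    have s1 : c x ∈ c.support := Equiv.Perm.apply_mem_support.mpr hx
    have s2 : c (c x) ∈ c.support := Equiv.Perm.apply_mem_support.mpr s1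
    refine hno x ?_
    rw [← hc.2 x hx, ← hc.2 _ s1, ← hc.2 _ s2]
    have h := congrArg (fun e : Equiv.Perm X => e x) (pow_orderOf_eq_one c)
    simpa [hc3', pow_succ, Equiv.Perm.mul_apply] using h
  · exact ⟨3 ^ i, by ring⟩

variable {T : Type*} [Group T] [Finite T] {ψ : MulAut T}

namespace Data

theorem self_centralizing (D : Data ψ) {A : Subgroup T} (hA : D.Good A)
    (hmax : ∀ B, D.Good B → A ≤ B → B = A) {t : T} (ht : ∀ a ∈ A, t * a = a * t) : t ∈ A := by
  haveI := hA.normal
  haveI : Fact (Nat.Prime 2) := ⟨Nat.prime_two⟩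
  by_contra htA
  let C : Subgroup T := Subgroup.centralizer (A : Set T)
  have hCi : ∀ u ∈ C, ∀ a ∈ A, u * a = a * u := fun u hu a ha => (Subgroup.mem_centralizer_iff.mp hu a ha).symm
  have htC : t ∈ C := Subgroup.mem_centralizer_iff.mpr fun a ha => (ht a ha).symm
  haveI hCn : C.Normal := inferInstanceAs (Subgroup.centralizer (A : Set T)).Normal
  let π := QuotientGroup.mk' A
  haveI : Group.IsNilpotent (T ⧸ A) := (D.two.to_quotient A).isNilpotent
  haveI : (C.map π).Normal := hCn.map π (QuotientGroup.mk'_surjective A)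
  have hne : C.map π ≠ ⊥ := by
    intro h
    refine htA ?_
    have h1 : π t ∈ C.map π := ⟨t, htC, rfl⟩
    rw [h, Subgroup.mem_bot] at h1
    exact (QuotientGroup.eq_one_iff t).mp h1
  obtain ⟨⟨c, hc⟩, hc1⟩ := Subgroup.ne_bot_iff_exists_ne_one.mp
    (Cfsg.Lib.Coprime.inf_center_ne_bot (C.map π) hne)
  obtain ⟨i, hi, hi2⟩ := exists_involution (D.two.to_quotient A) (x := c) (fun e => hc1 (Subtype.ext e))
  obtain ⟨⟨w, hwC, hwπ⟩, hcz⟩ := Subgroup.mem_inf.mp (pow_mem hc i)
  -- the subgroup of preimages of central involutions of the quotient inside the centralizer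
  let W : Subgroup T :=
    { carrier := {u | u ∈ C ∧ π u * π u = 1 ∧ π u ∈ Subgroup.center (T ⧸ A)}
      one_mem' := ⟨one_mem _, by simp, by simp⟩
      mul_mem' := fun {a b} ha hb => ⟨mul_mem ha.1 hb.1, by
        have hab := Subgroup.mem_center_iff.mp hb.2.2 (π a)
        rw [map_mul, mul_assoc, ← mul_assoc (π b), ← hab, mul_assoc (π a) (π b), hb.2.1, mul_one, ha.2.1],
        by rw [map_mul]; exact mul_mem ha.2.2 hb.2.2⟩
      inv_mem' := fun {a} ha => ⟨inv_mem ha.1, by rw [map_inv, ← mul_inv_rev, ha.2.1, inv_one],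
        by rw [map_inv]; exact inv_mem ha.2.2⟩ }
  have hwW : w ∈ W := ⟨hwC, by rw [hwπ]; exact hi2, by rw [hwπ]; exact hcz⟩
  have hwA : w ∉ A := fun h => hi (by rw [← hwπ]; exact (QuotientGroup.eq_one_iff w).mpr h)
  have hAW : A ≤ W := fun a ha => by
    have h1 : π a = 1 := (QuotientGroup.eq_one_iff a).mpr ha
    exact ⟨Subgroup.mem_centralizer_iff.mpr fun b hb => hA.comm b hb a ha, by rw [h1, one_mul],
      by rw [h1]; exact one_mem _⟩
  have hWcomm : ∀ u ∈ W, ∀ s : T, ⁅u, s⁆ ∈ A := fun u hu s => by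
    refine (QuotientGroup.eq_one_iff _).mp (show π ⁅u, s⁆ = 1 from ?_)
    rw [map_commutatorElement, commutatorElement_eq_one_iff_commute]
    exact (Subgroup.mem_center_iff.mp hu.2.2 (π s)).symm
  have hWsq : ∀ u ∈ W, u * u ∈ A := fun u hu =>
    (QuotientGroup.eq_one_iff _).mp (show π (u * u) = 1 by rw [map_mul]; exact hu.2.1)
  have hψC : ∀ u ∈ C, ψ u ∈ C := by
    intro u hu
    have hback : ∀ a ∈ A, ψ.symm a ∈ A := fun a ha => by
      obtain ⟨b, hb⟩ := Finite.surjective_of_injective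
        (f := fun a : A => (⟨ψ a, hA.inv _ a.2⟩ : A))
        (fun a b h => Subtype.ext (ψ.injective (congrArg Subtype.val h))) ⟨a, ha⟩
      rw [← show ψ b = a from congrArg Subtype.val hb, MulEquiv.symm_apply_apply]
      exact b.2
    refine Subgroup.mem_centralizer_iff.mpr fun a ha => ψ.symm.injective ?_
    rw [map_mul, map_mul, MulEquiv.symm_apply_apply]
    exact (hCi u hu _ (hback a ha)).symm
  have hψW : ∀ u ∈ W, ψ u ∈ W := by
    intro u hu
    refine ⟨hψC u hu.1, ?_, ?_⟩
    · show π (ψ u) * π (ψ u) = 1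
      rw [← map_mul π, ← map_mul ψ]
      exact (QuotientGroup.eq_one_iff _).mpr (hA.inv _ (hWsq u hu))
    · refine Subgroup.mem_center_iff.mpr fun z => ?_
      obtain ⟨s, rfl⟩ := QuotientGroup.mk'_surjective A z
      obtain ⟨s', rfl⟩ := ψ.surjective s
      refine (commutatorElement_eq_one_iff_commute.mp ?_).symm
      show ⁅π (ψ u), π (ψ s')⁆ = 1
      rw [← map_commutatorElement, ← map_commutatorElement]
      exact (QuotientGroup.eq_one_iff _).mpr (hA.inv _ (hWcomm u hu s'))
  -- the quadratic map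
  haveI hAcomm : IsMulCommutative A := ⟨⟨fun a b => Subtype.ext (hA.comm _ a.2 _ b.2)⟩⟩
  letI : CommGroup A := { (inferInstance : Group A) with mul_comm := fun a b => Subtype.ext (hA.comm _ a.2 _ b.2) }
  let AA : Subgroup A := (powMonoidHom 2 : A →* A).range
  have hV4 : Nat.card (A ⧸ AA) ≤ 4 := by
    have h1 : Nat.card AA = (powMonoidHom 2 : A →* A).ker.index := (Subgroup.index_ker _).symm
    have h2 := Subgroup.card_eq_card_quotient_mul_card_subgroup AA
    have h3 := Subgroup.card_mul_index (powMonoidHom 2 : A →* A).ker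
    have h4 : Nat.card (powMonoidHom 2 : A →* A).ker ≤ 4 := by
      rw [← D.card_omega]
      refine Nat.card_le_card_of_injective
        (fun a => (⟨((a : A) : T), ?_⟩ : omega D)) (fun a b h => Subtype.ext (Subtype.ext ?_))
      · have ha : (a : A) ^ 2 = 1 := a.2
        exact mem_omega D |>.mpr (by simpa [pow_two] using congrArg Subtype.val ha)
      · exact congrArg (fun u : omega D => (u : T)) h
    rw [← h1] at h3
    nlinarith [Nat.card_pos (α := AA)]
  let N : Subgroup W := A.subgroupOf W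
  haveI hNn : N.Normal := hA.normal.comap _
  letI : CommGroup (W ⧸ N) := { (inferInstance : Group (W ⧸ N)) with
    mul_comm := by
      intro a b
      obtain ⟨u, rfl⟩ := QuotientGroup.mk_surjective a
      obtain ⟨v, rfl⟩ := QuotientGroup.mk_surjective b
      rw [← QuotientGroup.mk_mul, ← QuotientGroup.mk_mul, QuotientGroup.eq, Subgroup.mem_subgroupOf]
      have h := hWcomm _ (inv_mem v.2) (u : T)⁻¹
      simp only [commutatorElement_def, inv_inv] at h
      simpa [mul_assoc] using h }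
  let sq : W → A ⧸ AA := fun u => QuotientGroup.mk (⟨(u : T) * u, hWsq _ u.2⟩ : A)
  have hcomA : ∀ u ∈ W, ∀ a ∈ A, u * a = a * u := fun u hu => hCi u hu.1
  let q : W ⧸ N → A ⧸ AA := fun m => Quotient.liftOn' m sq (by
    intro u v huv
    rw [QuotientGroup.leftRel_apply, Subgroup.mem_subgroupOf] at huv
    refine (QuotientGroup.eq).mpr ⟨⟨_, huv⟩, Subtype.ext ?_⟩
    set a : T := ((u⁻¹ * v : W) : T) with hadef
    have hv : (v : T) = u * a := by simp [hadef]
    show a ^ 2 = ((u : T) * u)⁻¹ * (v * v)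
    rw [hv, pow_two, mul_assoc (u : T) a, ← mul_assoc a (u : T) a, ← hcomA _ u.2 a huv, mul_assoc (u : T) a a,
      ← mul_assoc (u : T) u, inv_mul_cancel_left])
  let K : W → W → A ⧸ AA := fun u v => QuotientGroup.mk (⟨⁅(u : T), v⁆, hWcomm _ u.2 v⟩ : A)
  have hsqmul : ∀ u v : W, sq (u * v) = sq u * sq v * K v u := by
    intro u v
    simp only [sq, K, ← QuotientGroup.mk_mul]
    refine congrArg QuotientGroup.mk (Subtype.ext ?_)
    show (u : T) * v * (u * v) = u * u * (v * v) * ⁅(v : T), (u : T)⁆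
    have hk := hWcomm _ v.2 (u : T)
    rw [← hcomA _ (mul_mem (mul_mem u.2 u.2) (mul_mem v.2 v.2)) _ hk |>.symm]
    have h1 : (v : T) * u = ⁅(v : T), (u : T)⁆ * (u * v) := by rw [commutatorElement_def]; group
    rw [show (u : T) * v * (u * v) = u * (v * u) * v by group, h1, ← mul_assoc (u : T) ⁅(v : T), (u : T)⁆,
      hcomA _ u.2 _ hk]
    group
  have hKl : ∀ u v s : W, K (u * v) s = K u s * K v s := by
    intro u v s
    simp only [K, ← QuotientGroup.mk_mul]
    refine congrArg QuotientGroup.mk (Subtype.ext ?_)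
    show ⁅(u : T) * v, (s : T)⁆ = ⁅(u : T), (s : T)⁆ * ⁅(v : T), (s : T)⁆
    rw [show ⁅(u : T) * v, (s : T)⁆ = u * ⁅(v : T), (s : T)⁆ * (u : T)⁻¹ * ⁅(u : T), (s : T)⁆ by
        simp only [commutatorElement_def]; group,
      hcomA _ u.2 _ (hWcomm _ v.2 _), mul_inv_cancel_right, hA.comm _ (hWcomm _ v.2 _) _ (hWcomm _ u.2 _)]
  have hVexp : ∀ z : A ⧸ AA, z * z = 1 := by
    intro z
    obtain ⟨a, rfl⟩ := QuotientGroup.mk_surjective z
    rw [← QuotientGroup.mk_mul, QuotientGroup.eq_one_iff]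
    exact ⟨a, pow_two a⟩
  have hBval : ∀ u v : W, q (QuotientGroup.mk u * QuotientGroup.mk v) * q (QuotientGroup.mk u) *
      q (QuotientGroup.mk v) = K v u := by
    intro u v
    show sq (u * v) * sq u * sq v = K v u
    rw [hsqmul, show sq u * sq v * K v u * sq u * sq v = K v u * ((sq u * sq u) * (sq v * sq v)) by ac_rfl,
      hVexp, hVexp, one_mul, mul_one]
  have hcard : Nat.card (W ⧸ N) ≤ 32 := by
    refine quad_card ?_ hVexp hV4 q ?_ (fun m n => q (m * n) * q m * q n) ?_ ?_
    · intro m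
      obtain ⟨u, rfl⟩ := QuotientGroup.mk_surjective m
      rw [← QuotientGroup.mk_mul, QuotientGroup.eq_one_iff, Subgroup.mem_subgroupOf]
      exact hWsq _ u.2
    · intro m hm
      obtain ⟨u, rfl⟩ := QuotientGroup.mk_surjective m
      obtain ⟨b, hb⟩ := (QuotientGroup.eq_one_iff _).mp (show sq u = 1 from hm)
      have hb' : (b : T) * b = (u : T) * u := by
        have := congrArg Subtype.val hb
        simpa [pow_two] using this
      rw [QuotientGroup.eq_one_iff, Subgroup.mem_subgroupOf]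
      have h1 : (u : T) * (b : T)⁻¹ ∈ A := hA.omega_le (mem_omega D |>.mpr (by
        rw [mul_assoc, ← mul_assoc (b : T)⁻¹, ← hcomA _ u.2 _ (inv_mem b.2), mul_assoc (u : T), ← mul_assoc (u : T) u,
          ← mul_inv_rev, hb', mul_inv_cancel]))
      simpa using mul_mem h1 b.2
    · intro m n
      show q (m * n) = q m * q n * (q (m * n) * q m * q n)
      rw [mul_comm (q m * q n), mul_assoc (q (m * n)) (q m) (q n), mul_assoc, hVexp, mul_one]
    · intro x y z
      obtain ⟨a, rfl⟩ := QuotientGroup.mk_surjective x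
      obtain ⟨b, rfl⟩ := QuotientGroup.mk_surjective y
      obtain ⟨d, rfl⟩ := QuotientGroup.mk_surjective z
      show _ = (_ : A ⧸ AA) * _
      rw [← QuotientGroup.mk_mul N b d, hBval, hBval, hBval, hKl]
  -- a vector fixed by the cube of the automorphism
  let ψ' : W ≃* W := MulEquiv.ofBijective (MonoidHom.mk' (fun u : W => (⟨ψ u, hψW _ u.2⟩ : W))
    (fun u v => Subtype.ext (map_mul ψ _ _))) (Finite.injective_iff_bijective.mp
      (fun u v h => Subtype.ext (ψ.injective (congrArg Subtype.val h))))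
  have hψN : N ≤ N.comap ψ'.toMonoidHom := fun u hu => hA.inv _ hu
  let ψq : W ⧸ N →* W ⧸ N := QuotientGroup.map N N ψ'.toMonoidHom hψN
  have hinjq : ∀ m, ψq m = 1 → m = 1 := by
    intro m hm
    obtain ⟨u, rfl⟩ := QuotientGroup.mk_surjective m
    have h1 : ψ (u : T) ∈ A := (QuotientGroup.eq_one_iff (ψ' u)).mp hm
    obtain ⟨b, hb⟩ := Finite.surjective_of_injective
        (f := fun a : A => (⟨ψ a, hA.inv _ a.2⟩ : A))
        (fun a b h => Subtype.ext (ψ.injective (congrArg Subtype.val h))) ⟨_, h1⟩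
    rw [QuotientGroup.eq_one_iff, Subgroup.mem_subgroupOf, ← ψ.injective (congrArg Subtype.val hb)]
    exact b.2
  let σ : Equiv.Perm (W ⧸ N) := Equiv.ofBijective ψq
    (Finite.injective_iff_bijective.mp ((injective_iff_map_eq_one ψq).mpr hinjq))
  let σ' : Equiv.Perm {m : W ⧸ N // m ≠ 1} := σ.subtypePerm (fun m => by
    constructor
    · exact fun h e => h (show ψq m = 1 by rw [e, map_one])
    · exact fun h e => h (hinjq m e))
  obtain ⟨k, hk⟩ := D.ord
  have hiter : ∀ (n : ℕ) (u : W), ∃ v : W, (σ ^ n) (QuotientGroup.mk u) = QuotientGroup.mk v ∧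
      (v : T) = (ψ ^ n) u := by
    intro n
    induction n with
    | zero => exact fun u => ⟨u, rfl, rfl⟩
    | succ n ih =>
      intro u
      obtain ⟨v, hv, hv'⟩ := ih u
      refine ⟨ψ' v, ?_, ?_⟩
      · rw [pow_succ', Equiv.Perm.mul_apply, hv]; rfl
      · rw [pow_succ', MulAut.mul_apply, ← hv']; rfl
  have hσk : σ' ^ (3 ^ k) = 1 := by
    refine Equiv.Perm.ext fun m => Subtype.ext ?_
    obtain ⟨u, hu⟩ := QuotientGroup.mk_surjective m.1
    obtain ⟨v, hv, hv'⟩ := hiter (3 ^ k) u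
    rw [hk, MulAut.one_apply] at hv'
    rw [Equiv.Perm.subtypePerm_pow]
    show (σ ^ (3 ^ k)) (m : W ⧸ N) = (m : W ⧸ N)
    rw [← hu, hv, Subtype.ext hv']
  have h9 : ¬ 9 ∣ Nat.card {m : W ⧸ N // m ≠ 1} := by
    have hp : IsPGroup 2 (W ⧸ N) := (D.two.to_subgroup W).to_quotient N
    obtain ⟨e, he⟩ := hp.exists_card_eq
    have hone : Nat.card {m : W ⧸ N // m ≠ 1} + 1 = Nat.card (W ⧸ N) := by
      classical
      haveI := Fintype.ofFinite (W ⧸ N)
      rw [Nat.card_eq_fintype_card, Nat.card_eq_fintype_card, Fintype.card_subtype_compl,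
        Fintype.card_subtype_eq]
      have := Fintype.card_pos (α := W ⧸ N)
      omega
    have hne' : 2 ≤ Nat.card (W ⧸ N) := Finite.one_lt_card_iff_nontrivial.mpr
      ⟨⟨QuotientGroup.mk ⟨w, hwW⟩, 1, fun h => hwA ((QuotientGroup.eq_one_iff (⟨w, hwW⟩ : W)).mp h)⟩⟩
    rw [he] at hone hcard hne'
    have he5 : e ≤ 5 := (Nat.pow_le_pow_iff_right (by norm_num : 1 < 2)).mp (by norm_num; omega)
    interval_cases e <;> omega
  obtain ⟨⟨m, hm⟩, hfix⟩ := exists_fix_cube σ' k hσk h9
  obtain ⟨⟨x, hxW⟩, rfl⟩ := QuotientGroup.mk_surjective m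
  have hxA : x ∉ A := fun h => hm ((QuotientGroup.eq_one_iff _).mpr h)
  have hx3 : x⁻¹ * ψ (ψ (ψ x)) ∈ A :=
    (QuotientGroup.eq (s := N)).mp (congrArg Subtype.val hfix).symm
  set y := ψ x with hy
  have hyW : y ∈ W := hψW _ hxW
  set z := ψ y with hz
  have hzW : z ∈ W := hψW _ hyW
  have hswap : ∀ u ∈ W, ∀ v : T, (u * v)⁻¹ * (v * u) ∈ A := fun u hu v => by
    have h3 := hWcomm _ hu v
    rw [show (u * v)⁻¹ * (v * u) = (u * v)⁻¹ * ⁅u, v⁆⁻¹ * (u * v) by rw [commutatorElement_def]; group]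
    have := hA.normal.conj_mem _ (inv_mem h3) (u * v)⁻¹
    rwa [inv_inv] at this
  have hP : x * y * z ∈ A := by
    refine D.nofix hA.inv hA.comm ?_
    have h1 : (x * y * z)⁻¹ * (y * z * x) ∈ A := by
      have := hswap x hxW (y * z)
      simpa [mul_assoc] using this
    have h2 : (y * z * x)⁻¹ * (y * z * ψ z) ∈ A := by
      rw [show (y * z * x)⁻¹ * (y * z * ψ z) = x⁻¹ * ψ z by group]
      exact hx3
    rw [map_mul, map_mul, ← hy, ← hz]
    simpa [mul_assoc] using mul_mem h1 h2
  have hcxy : ⁅x, y⁆ = 1 := by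
    have hk1 := hWcomm x hxW y
    refine D.fpf ?_
    rw [map_commutatorElement, ← hy, ← hz]
    rw [show z = y⁻¹ * x⁻¹ * (x * y * z) by group]
    have hcy : y * (x * y * z) = x * y * z * y := hcomA y hyW _ hP
    have hcy' : (x * y * z) * y⁻¹ = y⁻¹ * (x * y * z) := by
      rw [eq_inv_mul_iff_mul_eq, ← mul_assoc, hcy, mul_inv_cancel_right]
    calc ⁅y, y⁻¹ * x⁻¹ * (x * y * z)⁆
        = x⁻¹ * ((x * y * z) * y⁻¹) * (x * y * z)⁻¹ * (x * y) := by rw [commutatorElement_def]; group
      _ = x⁻¹ * y⁻¹ * (x * y) := by rw [hcy']; group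
      _ = (y * x)⁻¹ * (⁅x, y⁆ * (y * x)) := by rw [commutatorElement_def]; group
      _ = ⁅x, y⁆ := by rw [← hcomA _ (mul_mem hyW hxW) _ hk1, inv_mul_cancel_left]
  have hxy : x * y = y * x := commutatorElement_eq_one_iff_mul_comm.mp hcxy
  let S : Set T := (A : Set T) ∪ {x, y}
  let B := Subgroup.closure S
  have hSC : B ≤ Subgroup.centralizer S := (Subgroup.closure_le _).mpr (by
    rintro u hu
    refine Subgroup.mem_centralizer_iff.mpr ?_
    rintro v hv
    rcases hu with hu | rfl | rfl <;> rcases hv with hv | rfl | rfl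
    all_goals first
      | rfl
      | exact hxy
      | exact hxy.symm
      | exact hA.comm _ hv _ hu
      | exact (hcomA _ hxW _ hv).symm
      | exact (hcomA _ hyW _ hv).symm
      | exact hcomA _ hxW _ hu
      | exact hcomA _ hyW _ hu)
  have hBcomm : ∀ a ∈ B, ∀ b ∈ B, a * b = b * a := fun a ha b hb => by
    have h1 : B ≤ Subgroup.centralizer ({b} : Set T) := (Subgroup.closure_le _).mpr fun s hs =>
      Subgroup.mem_centralizer_iff.mpr fun r hr => by
        rw [Set.mem_singleton_iff.mp hr]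
        exact (Subgroup.mem_centralizer_iff.mp (hSC hb) s hs).symm
    exact ((Subgroup.mem_centralizer_iff.mp (h1 ha)) b rfl).symm
  have hAB : A ≤ B := fun a ha => Subgroup.subset_closure (Or.inl ha)
  have hxB : x ∈ B := Subgroup.subset_closure (Or.inr (Or.inl rfl))
  have hyB : y ∈ B := Subgroup.subset_closure (Or.inr (Or.inr rfl))
  have hBW : B ≤ W := (Subgroup.closure_le _).mpr (by
    rintro u (hu | rfl | rfl)
    exacts [hAW hu, hxW, hyW])
  have hBgood : D.Good B := by
    refine ⟨⟨fun u hu s => ?_⟩, hBcomm, fun u hu => ?_, le_trans hA.omega_le hAB⟩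
    · rw [show s * u * s⁻¹ = ⁅u, s⁆⁻¹ * u by rw [commutatorElement_def]; group]
      exact mul_mem (hAB (inv_mem (hWcomm u (hBW hu) s))) hu
    · have : B ≤ B.comap ψ.toMonoidHom := (Subgroup.closure_le _).mpr (by
        rintro u (hu | rfl | rfl)
        · exact hAB (hA.inv _ hu)
        · exact hyB
        · show z ∈ B
          rw [show z = y⁻¹ * x⁻¹ * (x * y * z) by group]
          exact mul_mem (mul_mem (inv_mem hyB) (inv_mem hxB)) (hAB hP))
      exact this hu
  exact hxA (hmax B hBgood hAB ▸ hxB)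

/-- The automorphism has order dividing three. -/
theorem cube_all (D : Data ψ) {A : Subgroup T} (hA : D.Good A)
    (hmax : ∀ B, D.Good B → A ≤ B → B = A) (x : T) : ψ (ψ (ψ x)) = x := by
  have he : x⁻¹ * ψ (ψ (ψ x)) ∈ A := by
    refine D.self_centralizing hA hmax fun a ha => ?_
    have hconj : x * a * x⁻¹ ∈ A := hA.normal.conj_mem a ha x
    have h1 := D.cube_abelian hA.inv hA.comm hconj
    simp only [map_mul, map_inv, D.cube_abelian hA.inv hA.comm ha] at h1
    calc x⁻¹ * ψ (ψ (ψ x)) * a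
        = x⁻¹ * (ψ (ψ (ψ x)) * a * (ψ (ψ (ψ x)))⁻¹) * ψ (ψ (ψ x)) := by group
      _ = x⁻¹ * (x * a * x⁻¹) * ψ (ψ (ψ x)) := by rw [h1]
      _ = a * (x⁻¹ * ψ (ψ (ψ x))) := by group
  exact D.fix_of_shift (e := x⁻¹ * ψ (ψ (ψ x))) (by rw [mul_inv_cancel_left])
    (D.cube_abelian hA.inv hA.comm he)

end Data

end Cfsg.Lib.RankTwoTrans
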