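import Cfsg.Agent.TwoFusion.RankTwoTrans.Action

/-!
A rank two 2-group with an automorphism transitive on involutions is homocyclic or has a fixed normal form of
order 64.
-/

set_option autoImplicit false
set_option linter.unusedSectionVars false
set_option linter.style.haveILetI false
set_option maxRecDepth 10000

namespace Cfsg.Lib.RankTwoTrans

open scoped Matrix commutatorElement

/-- The matrix of the first outer generator. -/
def X0 : Matrix (Fin 2) (Fin 2) (ZMod (2 ^ 2)) := !![3, 2; 0, 3]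

/-- The matrix of the second outer generator. -/
def Y0 : Matrix (Fin 2) (Fin 2) (ZMod (2 ^ 2)) := !![3, 0; 2, 3]

/-- Generators and relations of the group of order 64. -/
structure Rels (T : Type*) [Group T] where
  e : (Fin 2 → ZMod (2 ^ 2)) → T
  x : T
  y : T
  e_add : ∀ u v, e (u + v) = e u * e v
  e_inj : Function.Injective e
  xx : x * x = e ![0, 2]
  yy : y * y = e ![2, 0]
  xe : ∀ v, x * e v = e (X0 *ᵥ v) * x
  ye : ∀ v, y * e v = e (Y0 *ᵥ v) * y
  xy : x * y = e ![2, 0] * (y * x)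
  surj : ∀ t : T, ∃ v, t = e v ∨ t = e v * x ∨ t = e v * y ∨ t = e v * (x * y)

variable {T : Type*} [Group T] [Finite T] {ψ : MulAut T}

theorem mat_shift {n : ℕ} (C : Coord ψ n) (t : T) :
    ∃ U, C.mat t = 1 + (2 : ZMod (2 ^ n)) • U := by
  have h : (C.mat t - 1).map (red C.one_le) = 0 := by
    have h1 := C.red_mat t
    rw [Matrix.map_sub (red C.one_le) (map_sub _), h1, Matrix.map_one _ (map_zero _) (map_one _), sub_self]
  obtain ⟨U, hU⟩ := exists_of_map_red C.one_le h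
  exact ⟨U, by rw [← hU]; abel⟩

theorem mat_psi_psi {n : ℕ} (C : Coord ψ n) (t : T) :
    C.mat (ψ (ψ t)) = rot (2 ^ n) * rot (2 ^ n) * C.mat t * rot (2 ^ n) := by
  have h := rot_cube (2 ^ n)
  set R := rot (2 ^ n) with hR
  calc C.mat (ψ (ψ t)) = R * (R * C.mat t * (R * R)) * (R * R) := by rw [C.mat_psi (ψ t), C.mat_psi t]
    _ = R * R * C.mat t * ((R * R * R) * R) := by simp only [mul_assoc]
    _ = R * R * C.mat t * R := by rw [h, one_mul]

theorem map_twist {n : ℕ} (hn : 1 ≤ n) (U : Matrix (Fin 2) (Fin 2) (ZMod (2 ^ n))) :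
    (U + rot (2 ^ n) * U * (rot (2 ^ n) * rot (2 ^ n)) + rot (2 ^ n) * rot (2 ^ n) * U * rot (2 ^ n)).map (red hn) =
      twistSum (U.map (red hn)) := by
  show (red hn).mapMatrix _ = _
  simp only [map_add, map_mul]
  simp only [RingHom.mapMatrix_apply, map_rot]
  rfl

theorem no_outer {n : ℕ} (hn : 3 ≤ n) (C : Coord ψ n) (t : T) : t ∈ C.A := by
  haveI := C.normal
  haveI : Fact (Nat.Prime 2) := ⟨Nat.prime_two⟩
  by_contra htA
  haveI : Nontrivial (T ⧸ C.A) := ⟨⟨QuotientGroup.mk t, 1, fun h => htA ((QuotientGroup.eq_one_iff t).mp h)⟩⟩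
  haveI := (C.two.to_quotient C.A).center_nontrivial
  obtain ⟨⟨c, hc⟩, hc1⟩ := exists_ne (1 : Subgroup.center (T ⧸ C.A))
  obtain ⟨i, hi, hi2⟩ := exists_involution (C.two.to_quotient C.A) (x := c) (fun e => hc1 (Subtype.ext e))
  obtain ⟨x, hx⟩ := QuotientGroup.mk_surjective (c ^ i)
  have hxA : x ∉ C.A := fun h => hi (hx ▸ (QuotientGroup.eq_one_iff x).mpr h)
  have hxx : x * x ∈ C.A := (QuotientGroup.eq_one_iff _).mp (by rw [QuotientGroup.mk_mul, hx, hi2])
  have hcomm : ∀ s, C.mat x * C.mat s = C.mat s * C.mat x := by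
    intro s
    have h : (x * s) * (s * x)⁻¹ ∈ C.A := (QuotientGroup.eq_one_iff _).mp (by
      rw [QuotientGroup.mk_mul, QuotientGroup.mk_inv, mul_inv_eq_one, QuotientGroup.mk_mul, QuotientGroup.mk_mul, hx]
      exact (Subgroup.mem_center_iff.mp (pow_mem hc i) (QuotientGroup.mk s)).symm)
    calc C.mat x * C.mat s = C.mat ((x * s) * (s * x)⁻¹ * (s * x)) := by rw [inv_mul_cancel_right, C.mat_mul]
      _ = _ := by rw [C.mat_mul, C.mat_of_mem h, one_mul, C.mat_mul]
  have hone : C.mat x * C.mat x = 1 := by rw [← C.mat_mul, C.mat_of_mem hxx]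
  set R := rot (2 ^ n) with hR
  have hR3 : R * R * R = 1 := rot_cube _
  have hprod : C.mat x * (R * C.mat x * (R * R)) * (R * R * C.mat x * R) = 1 := by
    have h := C.mat_orbit (t := x) (hcomm _) (hcomm _)
    rw [mat_psi_psi C x, C.mat_psi x] at h
    exact h
  have hconj : ∀ (Y : Matrix (Fin 2) (Fin 2) (ZMod (2 ^ n))),
      R * (1 + Y) * (R * R) = 1 + R * Y * (R * R) ∧ R * R * (1 + Y) * R = 1 + R * R * Y * R := by
    intro Y
    constructor
    · rw [mul_add, add_mul, mul_one, ← mul_assoc, hR3]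
    · rw [mul_add, add_mul, mul_one, hR3]
  obtain ⟨U, hU⟩ := mat_shift C x
  have hn1 : 1 ≤ n := C.one_le
  have hq : ((2 ^ (n - 2) : ℕ) : ZMod (2 ^ n)) * 2 = half n := by
    rw [half, show n - 1 = n - 2 + 1 by omega, pow_succ]; push_cast; rfl
  have hq4 : ((2 ^ (n - 2) : ℕ) : ZMod (2 ^ n)) * (2 * 2) = 0 := by
    rw [show ((2 : ZMod (2 ^ n)) * 2) = ((2 ^ 2 : ℕ) : ZMod (2 ^ n)) by norm_num, ← Nat.cast_mul,
      ZMod.natCast_eq_zero_iff, ← pow_add]
    exact pow_dvd_pow 2 (by omega)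
  have hUsum : twistSum (U.map (red hn1)) = 0 := by
    rw [← map_twist hn1, ← smul_mat_eq_zero hn1]
    have h := congrArg (fun M => ((2 ^ (n - 2) : ℕ) : ZMod (2 ^ n)) • (M - 1)) hprod
    rw [hU, (hconj _).1, (hconj _).2, sub_self, smul_zero] at h
    simp only [Matrix.mul_smul, Matrix.smul_mul, mul_add, add_mul, mul_one, one_mul, smul_add, smul_smul, smul_sub,
      ← hR] at h ⊢
    simp only [← hq] at ⊢
    have h2 : ((2 ^ (n - 2) : ℕ) : ZMod (2 ^ n)) * 2 * 2 = 0 := by rw [mul_assoc, hq4]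
    have h3 : ((2 ^ (n - 2) : ℕ) : ZMod (2 ^ n)) * 2 * 2 * 2 = 0 := by rw [h2, zero_mul]
    simp only [← mul_assoc, h2, zero_mul, zero_smul, add_zero] at h ⊢
    linear_combination (norm := abel) h
  have hUU : (U.map (red hn1)) * (U.map (red hn1)) + U.map (red hn1) = 0 := by
    have h0 : (U * U + U).map (red hn1) = 0 := by
      rw [← smul_mat_eq_zero hn1]
      have h := congrArg (fun M => ((2 ^ (n - 3) : ℕ) : ZMod (2 ^ n)) • (M - 1)) hone
      have h4 : ((2 ^ (n - 3) : ℕ) : ZMod (2 ^ n)) * 2 * 2 = half n := by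
        rw [half, show n - 1 = n - 3 + 1 + 1 by omega, pow_succ, pow_succ]; push_cast; rfl
      rw [hU, sub_self, smul_zero] at h
      simp only [Matrix.mul_smul, Matrix.smul_mul, mul_add, add_mul, mul_one, one_mul, smul_add, smul_smul, smul_sub,
        ← h4, ← mul_assoc] at h ⊢
      rw [← h]
      module
    rw [← h0]
    show _ = (red hn1).mapMatrix (U * U + U)
    rw [map_add, map_mul]
    rfl
  obtain ⟨U', hU'⟩ := exists_of_map_red hn1 (twist_idem _ hUU hUsum)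
  obtain ⟨V, hV⟩ : ∃ V, C.mat x = 1 + half n • V := by
    have hW : ((2 : ZMod (2 ^ n)) * 2 * 2) • U' = 0 := by
      set W := ((2 : ZMod (2 ^ n)) * 2 * 2) • U' with hWdef
      set Y := (-2 : ZMod (2 ^ n)) • U' with hY
      have hWY : W = Y * W := by
        have h := hone
        rw [hU, hU'] at h
        simp only [hWdef, hY, Matrix.mul_smul, Matrix.smul_mul, mul_add, add_mul, mul_one, one_mul, smul_add,
          smul_smul] at h ⊢
        linear_combination (norm := module) h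
      have hk : ∀ k, W = Y ^ k * W := by
        intro k
        induction k with
        | zero => rw [pow_zero, one_mul]
        | succ k ih => rw [pow_succ, mul_assoc, ← hWY, ← ih]
      rw [hk n, hY, smul_pow, neg_pow]
      have h2 : ((2 : ZMod (2 ^ n))) ^ n = 0 := by
        have := ZMod.natCast_self (2 ^ n)
        push_cast at this
        exact this
      rw [h2, mul_zero, zero_smul, zero_mul]
    obtain ⟨V, hV⟩ := exists_of_two_smul hn1 (U := ((2 : ZMod (2 ^ n)) * 2) • U')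
      (by rw [smul_smul, ← mul_assoc]; exact hW)
    exact ⟨V, by rw [hU, hU', smul_smul, ← hV]⟩
  have hh : half n * half n = 0 := half_sq (by omega)
  have hVsum : twistSum (V.map (red hn1)) = 0 := by
    rw [← map_twist hn1, ← smul_mat_eq_zero hn1]
    have h := hprod
    rw [hV, (hconj _).1, (hconj _).2] at h
    simp only [Matrix.mul_smul, Matrix.smul_mul, mul_add, add_mul, mul_one, one_mul, smul_add, smul_smul, hh,
      zero_smul, zero_mul, add_zero, ← hR] at h ⊢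
    linear_combination (norm := abel) h
  obtain ⟨c, hc, hcfix⟩ := C.exists_sq_coord hxx
  have hVc : (V.map (red hn1)) *ᵥ (red hn1 ∘ c) = 0 := by
    rw [hV, Matrix.add_mulVec, Matrix.one_mulVec, Matrix.smul_mulVec, add_eq_left] at hcfix
    funext i
    have h := congrFun hcfix i
    rw [Pi.smul_apply, smul_eq_mul, Pi.zero_apply, half_mul_eq_zero hn1] at h
    rw [Pi.zero_apply, ← RingHom.map_mulVec]
    exact h
  rcases twist_inj _ _ hVsum hVc with hV0 | hc0
  · refine hxA (C.mem_of_mat ?_)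
    rw [hV, (smul_mat_eq_zero hn1).mpr hV0, add_zero]
  have hd : ∀ i, ∃ d, c i = 2 * d := fun i => exists_of_red_eq_zero hn1 (congrFun hc0 i)
  choose d hd using hd
  set q := ((2 ^ (n - 2) : ℕ) : ZMod (2 ^ n)) with hqdef
  have hqh : half n * q = 0 := by
    rw [half, hqdef, ← Nat.cast_mul, ZMod.natCast_eq_zero_iff, ← pow_add]
    exact pow_dvd_pow 2 (by omega)
  have hsq := C.sq_shift hc hone (-d + q • (V *ᵥ d))
  have hc2 : c = (2 : ZMod (2 ^ n)) • d := funext fun i => hd i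
  have hzero : c + C.mat x *ᵥ (-d + q • (V *ᵥ d)) + (-d + q • (V *ᵥ d)) = 0 := by
    rw [hV, hc2, Matrix.add_mulVec, Matrix.one_mulVec, Matrix.smul_mulVec, Matrix.mulVec_add, Matrix.mulVec_neg,
      Matrix.mulVec_smul, smul_add, smul_smul, hqh, zero_smul, add_zero]
    rw [← hq]
    module
  rw [hzero, C.e_zero] at hsq
  exact hxA ((Subgroup.mul_mem_cancel_right _ (C.e_mem _)).mp (C.omega_mem _ hsq))

theorem one_case (C : Coord ψ 1) (t : T) : t ∈ C.A :=
  C.self_cent t fun a ha => by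
    obtain ⟨v, rfl⟩ := (C.mem_A _).mp ha
    have h2 : C.e v * C.e v = 1 := by
      rw [← C.e_add, show v + v = 0 from funext fun i => (by decide : ∀ z : ZMod (2 ^ 1), z + z = 0) _, C.e_zero]
    exact Subgroup.mem_center_iff.mp (C.central _ h2) t

theorem two_mat (C : Coord ψ 2) (t : T) :
    C.mat t = 1 ∨ C.mat t = X0 ∨ C.mat t = Y0 ∨ C.mat t = X0 * Y0 := by
  have hn1 : 1 ≤ 2 := C.one_le
  have h4 : (2 : ZMod (2 ^ 2)) * 2 = 0 := by decide
  have hsh : ∀ s, ∃ U, C.mat s = 1 + (2 : ZMod (2 ^ 2)) • U := mat_shift C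
  have hcomm : ∀ s s', C.mat s * C.mat s' = C.mat s' * C.mat s := by
    intro s s'
    obtain ⟨U, hU⟩ := hsh s
    obtain ⟨U', hU'⟩ := hsh s'
    rw [hU, hU']
    simp only [Matrix.mul_smul, Matrix.smul_mul, mul_add, add_mul, mul_one, one_mul, smul_smul, h4, zero_smul,
      add_zero]
    abel
  have hR3 : rot (2 ^ 2) * rot (2 ^ 2) * rot (2 ^ 2) = 1 := rot_cube _
  obtain ⟨U, hU⟩ := hsh t
  have hhalf : half 2 = (2 : ZMod (2 ^ 2)) := by decide
  have hsum : twistSum (U.map (red hn1)) = 0 := by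
    rw [← map_twist hn1, ← smul_mat_eq_zero hn1, hhalf]
    have h := C.mat_orbit (t := t) (hcomm _ _) (hcomm _ _)
    rw [mat_psi_psi C t, C.mat_psi t, hU] at h
    simp only [Matrix.mul_smul, Matrix.smul_mul, mul_add, add_mul, mul_one, one_mul, smul_add, smul_smul, h4,
      zero_smul, add_zero] at h ⊢
    simp only [← mul_assoc, hR3, one_mul, mul_one] at h ⊢
    simp only [mul_assoc] at h ⊢
    simp only [← mul_assoc, hR3, one_mul, mul_one] at h ⊢
    linear_combination (norm := abel) h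
  have hlift : ∀ L : Matrix (Fin 2) (Fin 2) (ZMod (2 ^ 2)), U.map (red hn1) = L.map (red hn1) →
      C.mat t = 1 + (2 : ZMod (2 ^ 2)) • L := by
    intro L hL
    rw [hU, ← hhalf, add_right_inj, ← sub_eq_zero, ← smul_sub, smul_mat_eq_zero hn1,
      Matrix.map_sub (red hn1) (map_sub _), hL, sub_self]
  rcases twist_cases _ hsum with h | h | h | h
  · left; rw [hlift 0 (by rw [h, Matrix.map_zero _ (map_zero _)]), smul_zero, add_zero]
  · right; left; rw [hlift !![1, 1; 0, 1] (h.trans (by ext i j; fin_cases i <;> fin_cases j <;> simp [S0]))]; decide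
  · right; right; left
    rw [hlift !![1, 0; 1, 1] (h.trans (by ext i j; fin_cases i <;> fin_cases j <;> simp [S1]))]; decide
  · right; right; right
    rw [hlift !![0, 1; 1, 0] (h.trans (by
      ext i j; fin_cases i <;> fin_cases j <;> simp [S0, S1, CharTwo.add_self_eq_zero]))]
    decide

theorem exists_rels (C : Coord ψ 2) (hne : ∃ t, t ∉ C.A) : Nonempty (Rels T) := by
  obtain ⟨s, hs⟩ := hne
  have hs1 : C.mat s ≠ 1 := fun h => hs (C.mem_of_mat h)
  obtain ⟨x, hx⟩ : ∃ x, C.mat x = X0 := by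
    rcases two_mat C s with h | h | h | h
    · exact absurd h hs1
    · exact ⟨s, h⟩
    · exact ⟨ψ (ψ s), by rw [C.mat_psi, C.mat_psi, h]; decide⟩
    · exact ⟨ψ s, by rw [C.mat_psi, h]; decide⟩
  obtain ⟨y, hy⟩ : ∃ y, C.mat y = Y0 := ⟨ψ x, by rw [C.mat_psi, hx]; decide⟩
  have hX1 : X0 * X0 = 1 := by decide
  have hY1 : Y0 * Y0 = 1 := by decide
  have hnotA : ∀ u : T, C.mat u ≠ 1 → u * u ≠ 1 := fun u hu h => hu (C.mat_of_mem (C.omega_mem _ h))
  obtain ⟨x, hx, hxx⟩ : ∃ x', C.mat x' = X0 ∧ x' * x' = C.e ![0, 2] := by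
    have hm : x * x ∈ C.A := C.mem_of_mat (by rw [C.mat_mul, hx, hX1])
    obtain ⟨c, hc, hfix⟩ := C.exists_sq_coord hm
    rw [hx] at hfix
    have h1 : ∀ v, x * C.e v * (x * C.e v) = C.e (c + X0 *ᵥ v + v) := fun v => by
      rw [← hx]; exact C.sq_shift hc (by rw [hx, hX1]) v
    have h2 : ∀ v, C.mat (x * C.e v) = X0 := fun v => by rw [C.mat_mul, hx, C.mat_of_mem (C.e_mem v), mul_one]
    rcases (by decide : ∀ c : Fin 2 → ZMod (2 ^ 2), X0 *ᵥ c = c →
        c = 0 ∨ c = ![2, 0] ∨ c = ![0, 2] ∨ c = ![2, 2]) c hfix with rfl | rfl | rfl | rfl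
    · refine absurd ?_ (hnotA x (by rw [hx]; decide))
      rw [← hc, C.e_zero]
    · refine absurd ?_ (hnotA (x * C.e ![0, 1]) (by rw [h2]; decide))
      rw [h1, show (![2, 0] : Fin 2 → ZMod (2 ^ 2)) + X0 *ᵥ ![0, 1] + ![0, 1] = 0 by decide, C.e_zero]
    · exact ⟨x, hx, hc.symm⟩
    · refine ⟨x * C.e ![0, 1], h2 _, ?_⟩
      rw [h1, show (![2, 2] : Fin 2 → ZMod (2 ^ 2)) + X0 *ᵥ ![0, 1] + ![0, 1] = ![0, 2] by decide]
  obtain ⟨y, hy, hyy⟩ : ∃ y', C.mat y' = Y0 ∧ y' * y' = C.e ![2, 0] := by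
    have hm : y * y ∈ C.A := C.mem_of_mat (by rw [C.mat_mul, hy, hY1])
    obtain ⟨c, hc, hfix⟩ := C.exists_sq_coord hm
    rw [hy] at hfix
    have h1 : ∀ v, y * C.e v * (y * C.e v) = C.e (c + Y0 *ᵥ v + v) := fun v => by
      rw [← hy]; exact C.sq_shift hc (by rw [hy, hY1]) v
    have h2 : ∀ v, C.mat (y * C.e v) = Y0 := fun v => by rw [C.mat_mul, hy, C.mat_of_mem (C.e_mem v), mul_one]
    rcases (by decide : ∀ c : Fin 2 → ZMod (2 ^ 2), Y0 *ᵥ c = c →
        c = 0 ∨ c = ![2, 0] ∨ c = ![0, 2] ∨ c = ![2, 2]) c hfix with rfl | rfl | rfl | rfl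
    · refine absurd ?_ (hnotA y (by rw [hy]; decide))
      rw [← hc, C.e_zero]
    · exact ⟨y, hy, hc.symm⟩
    · refine absurd ?_ (hnotA (y * C.e ![1, 0]) (by rw [h2]; decide))
      rw [h1, show (![0, 2] : Fin 2 → ZMod (2 ^ 2)) + Y0 *ᵥ ![1, 0] + ![1, 0] = 0 by decide, C.e_zero]
    · refine ⟨y * C.e ![1, 0], h2 _, ?_⟩
      rw [h1, show (![2, 2] : Fin 2 → ZMod (2 ^ 2)) + Y0 *ᵥ ![1, 0] + ![1, 0] = ![2, 0] by decide]
  have hxe : ∀ v, x * C.e v = C.e (X0 *ᵥ v) * x := fun v => by rw [← hx]; exact C.mul_e x v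
  have hye : ∀ v, y * C.e v = C.e (Y0 *ᵥ v) * y := fun v => by rw [← hy]; exact C.mul_e y v
  obtain ⟨k, hk⟩ := (C.mem_A (x * y * (y * x)⁻¹)).mp (C.mem_of_mat (by
    have h : C.mat (y * x) = C.mat (x * y) := by rw [C.mat_mul, C.mat_mul, hx, hy]; decide
    rw [C.mat_mul, ← h, ← C.mat_mul, mul_inv_cancel, C.mat_one]))
  have hxy : x * y = C.e k * (y * x) := by rw [hk, inv_mul_cancel_right]
  have hcx : y * (x * x) = x * x * y := Subgroup.mem_center_iff.mp (C.central (x * x) (by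
    rw [hxx, ← C.e_add, show (![0, 2] : Fin 2 → ZMod (2 ^ 2)) + ![0, 2] = 0 by decide, C.e_zero])) y
  have hcy : x * (y * y) = y * y * x := Subgroup.mem_center_iff.mp (C.central (y * y) (by
    rw [hyy, ← C.e_add, show (![2, 0] : Fin 2 → ZMod (2 ^ 2)) + ![2, 0] = 0 by decide, C.e_zero])) x
  have hk1 : X0 *ᵥ k + k = 0 := by
    refine C.e_inj ?_
    rw [C.e_add, C.e_zero]
    refine (mul_eq_right (a := C.e (X0 *ᵥ k) * C.e k) (b := y * (x * x))).mp ?_
    calc C.e (X0 *ᵥ k) * C.e k * (y * (x * x)) = C.e (X0 *ᵥ k) * (C.e k * (y * x)) * x := by group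
      _ = C.e (X0 *ᵥ k) * x * (y * x) := by rw [← hxy]; group
      _ = x * (C.e k * (y * x)) := by rw [← hxe]; group
      _ = x * x * y := by rw [← hxy, mul_assoc]
      _ = y * (x * x) := hcx.symm
  have hk2 : Y0 *ᵥ k + k = 0 := by
    refine C.e_inj ?_
    rw [add_comm, C.e_add, C.e_zero]
    refine (mul_eq_right (a := C.e k * C.e (Y0 *ᵥ k)) (b := y * y * x)).mp ?_
    calc C.e k * C.e (Y0 *ᵥ k) * (y * y * x) = C.e k * (C.e (Y0 *ᵥ k) * y) * (y * x) := by group
      _ = C.e k * y * (C.e k * (y * x)) := by rw [← hye]; group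
      _ = C.e k * y * (x * y) := by rw [← hxy]
      _ = x * y * y := by rw [← mul_assoc, mul_assoc (C.e k), ← hxy]
      _ = x * (y * y) := mul_assoc _ _ _
      _ = y * y * x := hcy
  have hsurj : ∀ (x y : T), C.mat x = X0 → C.mat y = Y0 →
      ∀ t : T, ∃ v, t = C.e v ∨ t = C.e v * x ∨ t = C.e v * y ∨ t = C.e v * (x * y) := by
    intro x y hx hy t
    have hrep : ∀ u, C.mat t = C.mat u → ∃ v, t = C.e v * u := fun u hu => by
      obtain ⟨v, hv⟩ := (C.mem_A (t * u⁻¹)).mp (C.mem_of_mat (by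
        rw [C.mat_mul, hu, ← C.mat_mul, mul_inv_cancel, C.mat_one]))
      exact ⟨v, by rw [hv, inv_mul_cancel_right]⟩
    rcases two_mat C t with h | h | h | h
    · exact ((C.mem_A t).mp (C.mem_of_mat h)).imp fun v hv => Or.inl hv.symm
    · exact (hrep x (h.trans hx.symm)).imp fun v hv => Or.inr (Or.inl hv)
    · exact (hrep y (h.trans hy.symm)).imp fun v hv => Or.inr (Or.inr (Or.inl hv))
    · exact (hrep (x * y) (by rw [h, C.mat_mul, hx, hy])).imp fun v hv => Or.inr (Or.inr (Or.inr hv))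
  have hz : C.mat (x * y) = X0 * Y0 := by rw [C.mat_mul, hx, hy]
  have hzz : x * y * (x * y) = C.e (-(X0 *ᵥ k) + ![0, 2] + ![2, 0]) := by
    rw [C.e_add, C.e_add, ← hxx, ← hyy]
    have h1 : y * x = C.e (-k) * (x * y) := by rw [C.e_neg, hxy, inv_mul_cancel_left]
    calc x * y * (x * y) = x * (y * x) * y := by group
      _ = x * C.e (-k) * (x * y * y) := by rw [h1]; group
      _ = C.e (-(X0 *ᵥ k)) * (x * x) * (y * y) := by rw [hxe, Matrix.mulVec_neg]; group
  rcases (by decide : ∀ k : Fin 2 → ZMod (2 ^ 2), X0 *ᵥ k + k = 0 → Y0 *ᵥ k + k = 0 →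
      k = 0 ∨ k = ![2, 0] ∨ k = ![0, 2] ∨ k = ![2, 2]) k hk1 hk2 with rfl | rfl | rfl | rfl
  · exfalso
    have h0 : C.e ![2, 2] = x * y * (x * y) := by
      rw [hzz]; congr 1; decide
    have h := C.sq_shift h0 (by rw [hz]; decide) ![1, 0]
    rw [hz, show (![2, 2] : Fin 2 → ZMod (2 ^ 2)) + (X0 * Y0) *ᵥ ![1, 0] + ![1, 0] = 0 by decide, C.e_zero] at h
    refine hnotA _ ?_ h
    rw [C.mat_mul, hz, C.mat_of_mem (C.e_mem _), mul_one]
    decide
  · exact ⟨⟨C.e, x, y, C.e_add, C.e_inj, hxx, hyy, hxe, hye, hxy, hsurj x y hx hy⟩⟩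
  · have hx' : C.mat (x * C.e ![1, 0]) = X0 := by rw [C.mat_mul, hx, C.mat_of_mem (C.e_mem _), mul_one]
    refine ⟨⟨C.e, x * C.e ![1, 0], y, C.e_add, C.e_inj, ?_, hyy, fun v => ?_, hye, ?_, hsurj _ _ hx' hy⟩⟩
    · have h := C.sq_shift hxx.symm (by rw [hx, hX1]) ![1, 0]
      rw [hx, show (![0, 2] : Fin 2 → ZMod (2 ^ 2)) + X0 *ᵥ ![1, 0] + ![1, 0] = ![0, 2] by decide] at h
      exact h
    · rw [← hx']; exact C.mul_e _ v
    · have hyi : C.e ![1, 0] * y = y * C.e (Y0 *ᵥ ![1, 0]) := by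
        rw [hye, Matrix.mulVec_mulVec, hY1, Matrix.one_mulVec]
      calc x * C.e ![1, 0] * y = x * (C.e ![1, 0] * y) := by group
        _ = x * y * C.e (Y0 *ᵥ ![1, 0]) := by rw [hyi]; group
        _ = C.e ![0, 2] * y * (x * C.e (Y0 *ᵥ ![1, 0])) := by rw [hxy]; group
        _ = C.e ![0, 2] * y * (x * C.e ![1, 0]) * C.e (Y0 *ᵥ ![1, 0] - ![1, 0]) := by
          rw [sub_eq_add_neg, C.e_add, C.e_comm (Y0 *ᵥ _), C.e_neg]; group
        _ = C.e ![0, 2] * (C.e (Y0 *ᵥ ![1, 0] - ![1, 0]) * (y * (x * C.e ![1, 0]))) := by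
          have hcen : C.e (Y0 *ᵥ ![1, 0] - ![1, 0]) ∈ Subgroup.center T := C.central _ (by
            rw [← C.e_add, show (Y0 *ᵥ ![1, 0] - ![1, 0]) + (Y0 *ᵥ ![1, 0] - ![1, 0]) =
              (0 : Fin 2 → ZMod (2 ^ 2)) by decide, C.e_zero])
          rw [mul_assoc (C.e ![0, 2]), mul_assoc (C.e ![0, 2]), Subgroup.mem_center_iff.mp hcen]
        _ = C.e ![2, 0] * (y * (x * C.e ![1, 0])) := by
          rw [← mul_assoc, ← C.e_add]
          congr 2
          decide
  · exfalso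
    refine hnotA (x * y) ?_ ?_
    · rw [hz]; decide
    · rw [hzz, show -(X0 *ᵥ ![2, 2]) + ![0, 2] + ![2, 0] = (0 : Fin 2 → ZMod (2 ^ 2)) by decide, C.e_zero]

end Cfsg.Lib.RankTwoTrans
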